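import Mathlib
import Cfsg.Agent.Lib.PReduced.Largest
import Cfsg.Agent.Lib.Transfer.Sylow

/-!
# Counting the elements normalizing some `p`-subgroup above a given one

For a finite poset the weights `up` are defined by `∑_{y ≥ x} up y = 1`. Summing the weights of
`p`-subgroups invariant under an element, over all elements, concentrates on the Sylow subgroups.
-/

set_option autoImplicit false
set_option linter.style.haveILetI false

namespace CfsgLib.Subnormalizer

section poset

variable {α : Type*} [PartialOrder α] [Finite α]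

open Classical in
/-- Weights with upper sums equal to one. -/
noncomputable def up (s : Finset α) : α → ℤ :=
  IsWellFounded.fix (α := α) (· > ·) fun x rec => 1 - ∑ y ∈ (s.filter (x < ·)).attach, rec y.1 (Finset.mem_filter.mp y.2).2

open Classical in
/-- Weights with lower sums equal to one. -/
noncomputable def down (s : Finset α) : α → ℤ :=
  IsWellFounded.fix (α := α) (· < ·) fun x rec => 1 - ∑ y ∈ (s.filter (· < x)).attach, rec y.1 (Finset.mem_filter.mp y.2).2

open Classical in
theorem up_eq (s : Finset α) (x : α) : up s x = 1 - ∑ y ∈ s.filter (x < ·), up s y := by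
  rw [up, IsWellFounded.fix_eq, ← Finset.sum_attach (s.filter (x < ·))]

open Classical in
theorem down_eq (s : Finset α) (x : α) : down s x = 1 - ∑ y ∈ s.filter (· < x), down s y := by
  rw [down, IsWellFounded.fix_eq, ← Finset.sum_attach (s.filter (· < x))]

open Classical in
theorem sum_up_ge {s : Finset α} {x : α} (hx : x ∈ s) : ∑ y ∈ s.filter (x ≤ ·), up s y = 1 := by
  have e : s.filter (x ≤ ·) = insert x (s.filter (x < ·)) := by
    ext y
    simp only [Finset.mem_filter, Finset.mem_insert, le_iff_eq_or_lt]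
    constructor
    · rintro ⟨hy, rfl | h⟩
      · exact Or.inl rfl
      · exact Or.inr ⟨hy, h⟩
    · rintro (rfl | ⟨hy, h⟩)
      · exact ⟨hx, Or.inl rfl⟩
      · exact ⟨hy, Or.inr h⟩
  rw [e, Finset.sum_insert (by simp), up_eq s x]
  ring

open Classical in
theorem sum_down_le {s : Finset α} {x : α} (hx : x ∈ s) : ∑ y ∈ s.filter (· ≤ x), down s y = 1 := by
  have e : s.filter (· ≤ x) = insert x (s.filter (· < x)) := by
    ext y
    simp only [Finset.mem_filter, Finset.mem_insert, le_iff_eq_or_lt]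
    constructor
    · rintro ⟨hy, rfl | h⟩
      · exact Or.inl rfl
      · exact Or.inr ⟨hy, h⟩
    · rintro (rfl | ⟨hy, h⟩)
      · exact ⟨hx, Or.inl rfl⟩
      · exact ⟨hy, Or.inr h⟩
  rw [e, Finset.sum_insert (by simp), down_eq s x]
  ring

open Classical in
/-- Both total weights agree. -/
theorem sum_up_eq_sum_down (s : Finset α) : ∑ y ∈ s, up s y = ∑ y ∈ s, down s y := by
  calc ∑ y ∈ s, up s y = ∑ y ∈ s, ∑ z ∈ s.filter (· ≤ y), down s z * up s y := by
        refine Finset.sum_congr rfl fun y hy => ?_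
        rw [← Finset.sum_mul, sum_down_le hy, one_mul]
    _ = ∑ z ∈ s, ∑ y ∈ s.filter (z ≤ ·), down s z * up s y := by
        simp only [Finset.sum_filter]
        exact Finset.sum_comm
    _ = _ := by
        refine Finset.sum_congr rfl fun z hz => ?_
        rw [← Finset.mul_sum, sum_up_ge hz, mul_one]

open Classical in
theorem up_congr (s t : Finset α) (x : α) (h : ∀ y, x < y → (y ∈ s ↔ y ∈ t)) : up s x = up t x := by
  induction x using IsWellFounded.induction (α := α) (· > ·) with
  | _ x ih =>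
  rw [up_eq, up_eq]
  have e : s.filter (x < ·) = t.filter (x < ·) := by
    ext y
    simp only [Finset.mem_filter, and_congr_left_iff]
    exact h y
  rw [e]
  congr 1
  exact Finset.sum_congr rfl fun y hy =>
    ih y (Finset.mem_filter.mp hy).2 fun z hz => h z ((Finset.mem_filter.mp hy).2.trans hz)

open Classical in
/-- Restriction to a downward closed part onto which everything retracts. -/
theorem sum_up_retract (s t : Finset α) (hts : t ⊆ s) (hdown : ∀ x ∈ t, ∀ y ∈ s, y ≤ x → y ∈ t)
    (c : α → α) (hc : ∀ y ∈ s, c y ∈ t ∧ c y ≤ y) (hmax : ∀ y ∈ s, ∀ z ∈ t, z ≤ y → z ≤ c y) :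
    ∑ y ∈ s, up s y = ∑ y ∈ t, up t y := by
  rw [sum_up_eq_sum_down, sum_up_eq_sum_down]
  have key : ∀ x, x ∈ s → down s x = if x ∈ t then down t x else 0 := by
    intro x
    induction x using IsWellFounded.induction (α := α) (· < ·) with
    | _ x ih =>
    intro hx
    rw [down_eq]
    have hsum : ∑ y ∈ s.filter (· < x), down s y = ∑ y ∈ t.filter (· < x), down t y := by
      rw [Finset.sum_congr rfl fun y hy => ih y (Finset.mem_filter.mp hy).2 (Finset.mem_filter.mp hy).1,
        ← Finset.sum_filter]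
      congr 1
      ext y
      simp only [Finset.mem_filter]
      exact ⟨fun h => ⟨h.2, h.1.2⟩, fun h => ⟨⟨hts h.1, h.2⟩, h.1⟩⟩
    rw [hsum]
    by_cases hxt : x ∈ t
    · rw [if_pos hxt, down_eq t x]
    · rw [if_neg hxt]
      have e : t.filter (· < x) = t.filter (· ≤ c x) := by
        ext y
        simp only [Finset.mem_filter, and_congr_right_iff]
        intro hy
        refine ⟨fun h => hmax x hx y hy h.le, fun h => lt_of_le_of_ne (h.trans (hc x hx).2) ?_⟩
        rintro rfl
        exact hxt hy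
      rw [e, sum_down_le (hc x hx).1, sub_self]
  rw [Finset.sum_congr rfl key, ← Finset.sum_filter]
  congr 1
  ext y
  simp only [Finset.mem_filter]
  exact ⟨fun h => h.2, fun h => ⟨hts h, h⟩⟩

end poset

variable {G : Type*} [Group G] [Finite G] {p : ℕ} [Fact p.Prime]

open Classical in
/-- The `p`-subgroups of `L` normalized by `g`. -/
noncomputable def fixedPGroups (p : ℕ) (L : Subgroup G) (g : G) : Finset (Subgroup G) :=
  (Set.toFinite {Y : Subgroup G | IsPGroup p Y ∧ Y ≤ L ∧ g ∈ Subgroup.normalizer (Y : Set G)}).toFinset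

theorem mem_fixedPGroups {L : Subgroup G} {g : G} {Y : Subgroup G} :
    Y ∈ fixedPGroups p L g ↔ IsPGroup p Y ∧ Y ≤ L ∧ g ∈ Subgroup.normalizer (Y : Set G) := by
  simp [fixedPGroups]

/-- A maximal `p`-subgroup of `L`. -/
def IsMaxIn (p : ℕ) (L X : Subgroup G) : Prop :=
  IsPGroup p X ∧ X ≤ L ∧ ∀ Y : Subgroup G, IsPGroup p Y → Y ≤ L → X ≤ Y → Y = X

theorem exists_isMaxIn {L H : Subgroup G} (hH : IsPGroup p H) (hHL : H ≤ L) : ∃ X, H ≤ X ∧ IsMaxIn p L X := by
  obtain ⟨X, hX, hmax⟩ := Set.Finite.exists_maximal (Set.toFinite {Y : Subgroup G | IsPGroup p Y ∧ Y ≤ L ∧ H ≤ Y})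
    ⟨H, hH, hHL, le_rfl⟩
  exact ⟨X, hX.2.2, hX.1, hX.2.1, fun Y h1 h2 h3 => le_antisymm (hmax ⟨h1, h2, hX.2.2.trans h3⟩ h3) h3⟩

theorem isMaxIn_inf_normalizer {L X : Subgroup G} (hX : IsPGroup p X) (hXL : X ≤ L) :
    IsMaxIn p (L ⊓ Subgroup.normalizer (X : Set G)) X ↔ IsMaxIn p L X := by
  refine ⟨fun h => ⟨hX, hXL, fun Y hY hYL hXY => ?_⟩,
    fun h => ⟨hX, le_inf hXL Subgroup.le_normalizer, fun Y hY hYL hXY => h.2.2 Y hY (hYL.trans inf_le_left) hXY⟩⟩
  by_contra hne
  have hlt := CfsgLib.Transfer.lt_inf_normalizer hY (lt_of_le_of_ne hXY (Ne.symm hne))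
  exact hlt.ne' (h.2.2 _ (hY.to_le inf_le_left) (inf_le_inf hYL le_rfl) hlt.le)

/-- The orders of the normalizers of the maximal `p`-subgroups add up to the group order. -/
theorem sum_isMaxIn (L : Subgroup G) [Fintype (Subgroup G)] [DecidablePred (IsMaxIn p L)] :
    ∑ Y ∈ Finset.univ.filter (IsMaxIn p L), (Nat.card (L ⊓ Subgroup.normalizer (Y : Set G) : Subgroup G) : ℤ) =
      Nat.card L := by
  classical
  haveI := Fintype.ofFinite (Sylow p L)
  have hto : ∀ Q : Sylow p L, IsMaxIn p L ((Q : Subgroup L).map L.subtype) := by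
    intro Q
    refine ⟨Q.2.map _, Subgroup.map_subtype_le _, fun Y hY hYL hQY => ?_⟩
    have h := Q.3 (Q := Y.subgroupOf L) (hY.comap_of_injective L.subtype L.subtype_injective)
      (fun x hx => hQY (Subgroup.mem_map_of_mem _ hx))
    rw [← Subgroup.map_subgroupOf_eq_of_le hYL, h]
  have hnorm : ∀ Q : Sylow p L, Nat.card (L ⊓ Subgroup.normalizer (((Q : Subgroup L).map L.subtype : Subgroup G) : Set G) : Subgroup G) =
      Nat.card (Subgroup.normalizer ((Q : Subgroup L) : Set L)) := by
    intro Q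
    rw [← Subgroup.card_subtype L (Subgroup.normalizer ((Q : Subgroup L) : Set L))]
    congr 2
    ext x
    constructor
    · rintro ⟨hxL, hxN⟩
      refine ⟨⟨x, hxL⟩, ?_, rfl⟩
      rw [SetLike.mem_coe, Subgroup.mem_normalizer_iff]
      intro y
      have h1 := Subgroup.mem_normalizer_iff.mp hxN (y : G)
      rw [← Subgroup.mem_map_iff_mem (f := L.subtype) L.subtype_injective, ← Subgroup.mem_map_iff_mem (f := L.subtype) L.subtype_injective]
      exact h1
    · rintro ⟨⟨x, hxL⟩, hxN, rfl⟩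
      refine ⟨hxL, Subgroup.mem_normalizer_iff.mpr fun y => ?_⟩
      rw [SetLike.mem_coe, Subgroup.mem_normalizer_iff] at hxN
      constructor
      · rintro ⟨z, hz, rfl⟩
        exact ⟨⟨x, hxL⟩ * z * ⟨x, hxL⟩⁻¹, (hxN z).mp hz, rfl⟩
      · rintro ⟨z, hz, e⟩
        refine ⟨⟨x, hxL⟩⁻¹ * z * ⟨x, hxL⟩, (hxN _).mpr ?_, ?_⟩
        · have e' : (⟨x, hxL⟩ : L) * (⟨x, hxL⟩⁻¹ * z * ⟨x, hxL⟩) * ⟨x, hxL⟩⁻¹ = z := by group
          rw [e']; exact hz
        · simp only [Subgroup.coe_subtype] at e ⊢
          push_cast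
          rw [e]
          group
  obtain ⟨Q₀⟩ : Nonempty (Sylow p L) := inferInstance
  calc _ = ∑ Q : Sylow p L, (Nat.card (Subgroup.normalizer ((Q : Subgroup L) : Set L)) : ℤ) := by
        symm
        refine Finset.sum_bij' (fun Q _ => (Q : Subgroup L).map L.subtype)
          (fun Y _ => if h : ∃ Q : Sylow p L, (Q : Subgroup L).map L.subtype = Y then h.choose else Q₀) ?_ ?_ ?_ ?_ ?_
        · exact fun Q _ => Finset.mem_filter.mpr ⟨Finset.mem_univ _, hto Q⟩
        · exact fun Y _ => Finset.mem_univ _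
        · intro Q _
          have hex : ∃ Q' : Sylow p L, (Q' : Subgroup L).map L.subtype = (Q : Subgroup L).map L.subtype := ⟨Q, rfl⟩
          rw [dif_pos hex]
          exact Sylow.ext (Subgroup.map_injective L.subtype_injective hex.choose_spec)
        · intro Y hY
          obtain ⟨h1, h2, h3⟩ := (Finset.mem_filter.mp hY).2
          obtain ⟨Q, hQ⟩ := (h1.comap_of_injective L.subtype L.subtype_injective).exists_le_sylow
          have he : (Q : Subgroup L).map L.subtype = Y := h3 _ (Q.2.map _) (Subgroup.map_subtype_le _) (by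
            have := Subgroup.map_mono (f := L.subtype) hQ
            rwa [show (Y.comap L.subtype).map L.subtype = Y from Subgroup.map_subgroupOf_eq_of_le h2] at this)
          have hex : ∃ Q' : Sylow p L, (Q' : Subgroup L).map L.subtype = Y := ⟨Q, he⟩
          rw [dif_pos hex]
          exact hex.choose_spec
        · exact fun Q _ => by rw [hnorm]
    _ = _ := by
        have hconst : ∀ Q : Sylow p L, (Nat.card (Subgroup.normalizer ((Q : Subgroup L) : Set L)) : ℤ) =
            Nat.card (Subgroup.normalizer ((Q₀ : Subgroup L) : Set L)) := by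
          intro Q
          obtain ⟨g, rfl⟩ := MulAction.exists_smul_eq L Q₀ Q
          have h := Subgroup.index_mul_card (Subgroup.normalizer (((g • Q₀ : Sylow p L) : Subgroup L) : Set L))
          have h0 := Subgroup.index_mul_card (Subgroup.normalizer ((Q₀ : Subgroup L) : Set L))
          have e1 := (g • Q₀).card_eq_index_normalizer
          have e2 := Q₀.card_eq_index_normalizer
          exact_mod_cast Nat.eq_of_mul_eq_mul_left (Nat.pos_of_ne_zero Subgroup.index_ne_zero_of_finite)
            ((h.trans h0.symm).trans (congrArg (· * _) (e2.symm.trans e1)))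
        rw [Finset.sum_congr rfl fun Q _ => hconst Q, Finset.sum_const, Finset.card_univ, nsmul_eq_mul,
          ← Nat.card_eq_fintype_card, Q₀.card_eq_index_normalizer, ← Nat.cast_mul]
        congr 1
        exact Subgroup.index_mul_card _

open Classical in
/-- An element normalizing some `p`-subgroup of `L` above `H` has upper weight one. -/
theorem sum_up_above {L H : Subgroup G} {g : G} {Y : Subgroup G} (hY : Y ∈ fixedPGroups p L g) (hHY : H ≤ Y) :
    ∑ Z ∈ (fixedPGroups p L g).filter (H ≤ ·), up (fixedPGroups p L g) Z = 1 := by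
  set s := fixedPGroups p L g with hs
  set R := (s.filter (H ≤ ·)).inf id with hR
  have hRY : R ≤ Y := Finset.inf_le (f := id) (Finset.mem_filter.mpr ⟨hY, hHY⟩)
  have hgR : g ∈ Subgroup.normalizer (R : Set G) := by
    rw [hR]
    refine Finset.inf_induction (p := fun X : Subgroup G => g ∈ Subgroup.normalizer (X : Set G)) ?_ ?_ ?_
    · exact Subgroup.mem_normalizer_iff.mpr fun x => iff_of_true (Subgroup.mem_top _) (Subgroup.mem_top _)
    · intro A hA B hB
      rw [Subgroup.mem_normalizer_iff] at hA hB ⊢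
      intro x
      rw [Subgroup.mem_inf, Subgroup.mem_inf, hA x, hB x]
    · exact fun Z hZ => (mem_fixedPGroups.mp (Finset.mem_filter.mp hZ).1).2.2
  have hRs : R ∈ s := mem_fixedPGroups.mpr
    ⟨(mem_fixedPGroups.mp hY).1.to_le hRY, hRY.trans (mem_fixedPGroups.mp hY).2.1, hgR⟩
  have hHR : H ≤ R := Finset.le_inf fun Z hZ => (Finset.mem_filter.mp hZ).2
  have e : s.filter (H ≤ ·) = s.filter (R ≤ ·) := Finset.filter_congr fun Z hZ =>
    ⟨fun h => Finset.inf_le (f := id) (Finset.mem_filter.mpr ⟨hZ, h⟩), hHR.trans⟩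
  rw [e, sum_up_ge hRs]

open Classical in
/-- The weight of `X` seen by `L` equals the one seen by the normalizer of `X` in `L`. -/
theorem up_inf_normalizer {L X : Subgroup G} {g : G} (hXL : X ≤ L)
    (hg : g ∈ Subgroup.normalizer (X : Set G)) :
    up (fixedPGroups p L g) X = up (fixedPGroups p (L ⊓ Subgroup.normalizer (X : Set G)) g) X := by
  set K := L ⊓ Subgroup.normalizer (X : Set G) with hK
  set s := fixedPGroups p L g with hs
  set t := fixedPGroups p K g with ht
  rw [up_eq, up_eq t]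
  congr 1
  set s' := s.filter (X < ·) with hs'
  set t' := t.filter (X < ·) with ht'
  rw [Finset.sum_congr rfl fun y hy => up_congr s s' y fun z hz => by
    simp [hs', ((Finset.mem_filter.mp hy).2.trans hz)]]
  rw [Finset.sum_congr rfl fun y hy => up_congr t t' y fun z hz => by
    simp [ht', ((Finset.mem_filter.mp hy).2.trans hz)]]
  refine sum_up_retract s' t' ?_ ?_ (fun Y => Y ⊓ Subgroup.normalizer (X : Set G)) ?_ ?_
  · intro Y hY
    obtain ⟨h1, h2⟩ := Finset.mem_filter.mp hY
    obtain ⟨a, b, c⟩ := mem_fixedPGroups.mp h1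
    exact Finset.mem_filter.mpr ⟨mem_fixedPGroups.mpr ⟨a, b.trans inf_le_left, c⟩, h2⟩
  · intro x hx y hy hyx
    obtain ⟨h1, h2⟩ := Finset.mem_filter.mp hy
    obtain ⟨a, -, c⟩ := mem_fixedPGroups.mp h1
    exact Finset.mem_filter.mpr ⟨mem_fixedPGroups.mpr
      ⟨a, hyx.trans (mem_fixedPGroups.mp (Finset.mem_filter.mp hx).1).2.1, c⟩, h2⟩
  · intro Y hY
    obtain ⟨h1, h2⟩ := Finset.mem_filter.mp hY
    obtain ⟨a, b, c⟩ := mem_fixedPGroups.mp h1
    refine ⟨Finset.mem_filter.mpr ⟨mem_fixedPGroups.mpr ⟨a.to_le inf_le_left, inf_le_inf b le_rfl, ?_⟩,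
      CfsgLib.Transfer.lt_inf_normalizer a h2⟩, inf_le_left⟩
    have hgg : g ∈ Subgroup.normalizer ((Subgroup.normalizer (X : Set G) : Subgroup G) : Set G) := Subgroup.le_normalizer hg
    rw [Subgroup.mem_normalizer_iff] at c hgg ⊢
    intro x
    rw [Subgroup.mem_inf, Subgroup.mem_inf, c x, hgg x]
  · intro Y _ Z hZ hZY
    exact le_inf hZY ((mem_fixedPGroups.mp (Finset.mem_filter.mp hZ).1).2.1.trans inf_le_right)

open Classical in
/-- The total weight of a `p`-subgroup is concentrated on the maximal ones. -/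
theorem sum_up_eq : ∀ (n : ℕ) (X L : Subgroup G), Nat.card G - Nat.card X < n → IsPGroup p X → X ≤ L →
    ∀ [Fintype G], ∑ g ∈ Finset.univ.filter (fun g => g ∈ L ⊓ Subgroup.normalizer (X : Set G)), up (fixedPGroups p L g) X =
      if IsMaxIn p L X then (Nat.card (L ⊓ Subgroup.normalizer (X : Set G) : Subgroup G) : ℤ) else 0 := by
  intro n
  induction n with
  | zero => exact fun X L h => absurd h (Nat.not_lt_zero _)
  | succ n ih =>
  intro X L hn hX hXL _
  haveI := Fintype.ofFinite (Subgroup G)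
  set K := L ⊓ Subgroup.normalizer (X : Set G) with hK
  rw [Finset.sum_congr rfl fun g hg => up_inf_normalizer (p := p) hXL (Finset.mem_filter.mp hg).2.2]
  have hXK : X ≤ K := le_inf hXL Subgroup.le_normalizer
  -- every element of `K` has upper weight one above `X`
  have htot : ∑ g ∈ Finset.univ.filter (fun g => g ∈ K), ∑ Y ∈ (fixedPGroups p K g).filter (X ≤ ·), up (fixedPGroups p K g) Y =
      Nat.card K := by
    rw [Finset.sum_congr rfl fun g hg => sum_up_above (mem_fixedPGroups.mpr
      ⟨hX, hXK, (Finset.mem_filter.mp hg).2.2⟩) le_rfl, Finset.sum_const, nsmul_eq_mul, mul_one]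
    rw [Nat.card_eq_fintype_card, Fintype.card_subtype]
  rw [Finset.sum_comm' (t' := Finset.univ.filter (fun Y : Subgroup G => IsPGroup p Y ∧ Y ≤ K ∧ X ≤ Y))
    (s' := fun Y : Subgroup G => Finset.univ.filter (fun g => g ∈ K ⊓ Subgroup.normalizer (Y : Set G))) (fun g Y => by
      simp only [Finset.mem_filter, Finset.mem_univ, true_and, mem_fixedPGroups, Subgroup.mem_inf]
      tauto)] at htot
  have hsum : ∀ Y ∈ (Finset.univ.filter (fun Y : Subgroup G => IsPGroup p Y ∧ Y ≤ K ∧ X ≤ Y)).erase X,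
      ∑ g ∈ Finset.univ.filter (fun g => g ∈ K ⊓ Subgroup.normalizer (Y : Set G)), up (fixedPGroups p K g) Y =
        if IsMaxIn p K Y then (Nat.card (K ⊓ Subgroup.normalizer (Y : Set G) : Subgroup G) : ℤ) else 0 := by
    intro Y hY
    obtain ⟨hne, hY'⟩ := Finset.mem_erase.mp hY
    obtain ⟨h1, h2, h3⟩ := (Finset.mem_filter.mp hY').2
    refine ih Y K ?_ h1 h2
    have hlt : Nat.card X < Nat.card Y := by
      by_contra hge
      exact hne (Subgroup.eq_of_le_of_card_ge h3 (not_lt.mp hge)).symm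
    have := Subgroup.card_le_card_group Y
    omega
  have hXmem : X ∈ Finset.univ.filter (fun Y : Subgroup G => IsPGroup p Y ∧ Y ≤ K ∧ X ≤ Y) :=
    Finset.mem_filter.mpr ⟨Finset.mem_univ _, hX, hXK, le_rfl⟩
  rw [← Finset.add_sum_erase _ _ hXmem, Finset.sum_congr rfl hsum] at htot
  have hKN : K ⊓ Subgroup.normalizer (X : Set G) = K := by rw [hK, inf_assoc, inf_idem]
  rw [hKN] at htot
  -- all maximal subgroups of `K` contain `X`
  have hmaxX : ∀ Y, IsMaxIn p K Y → X ≤ Y := by
    intro Y hY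
    have hYN : Y ≤ Subgroup.normalizer (X : Set G) := hY.2.1.trans inf_le_right
    have h := hY.2.2 (X ⊔ Y) (IsPGroup.to_sup_of_normal_left' hX hY.1 hYN) (sup_le hXK hY.2.1) le_sup_right
    exact h ▸ le_sup_left
  have hS := sum_isMaxIn (p := p) K
  by_cases hmax : IsMaxIn p L X
  · rw [if_pos hmax]
    have hmaxK := (isMaxIn_inf_normalizer hX hXL).mpr hmax
    have hz : ∀ Y ∈ (Finset.univ.filter (fun Y : Subgroup G => IsPGroup p Y ∧ Y ≤ K ∧ X ≤ Y)).erase X, False := by
      intro Y hY
      obtain ⟨hne, hY'⟩ := Finset.mem_erase.mp hY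
      obtain ⟨h1, h2, h3⟩ := (Finset.mem_filter.mp hY').2
      exact hne (hmaxK.2.2 Y h1 h2 h3)
    rw [Finset.sum_eq_zero fun Y hY => (hz Y hY).elim, add_zero] at htot
    exact htot
  · rw [if_neg hmax]
    have hmaxK : ¬ IsMaxIn p K X := fun h => hmax ((isMaxIn_inf_normalizer hX hXL).mp h)
    have e : ((Finset.univ.filter (fun Y : Subgroup G => IsPGroup p Y ∧ Y ≤ K ∧ X ≤ Y)).erase X).filter (IsMaxIn p K) =
        Finset.univ.filter (IsMaxIn p K) := by
      ext Y
      simp only [Finset.mem_filter, Finset.mem_erase, Finset.mem_univ, true_and]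
      exact ⟨fun h => h.2, fun h => ⟨⟨fun e => hmaxK (e ▸ h), h.1, h.2.1, hmaxX Y h⟩, h⟩⟩
    rw [← Finset.sum_filter, e, hS] at htot
    linarith

open Classical in
/-- Elements normalizing a `p`-subgroup above `H` against Sylow subgroups above `H`. -/
theorem card_eq_mul {H : Subgroup G} (hH : IsPGroup p H) (P : Sylow p G) :
    Nat.card {g : G // ∃ Y : Subgroup G, IsPGroup p Y ∧ H ≤ Y ∧ g ∈ Subgroup.normalizer (Y : Set G)} =
      Nat.card {Q : Sylow p G // H ≤ (Q : Subgroup G)} * Nat.card (Subgroup.normalizer ((P : Subgroup G) : Set G)) := by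
  haveI := Fintype.ofFinite G
  haveI := Fintype.ofFinite (Subgroup G)
  haveI := Fintype.ofFinite (Sylow p G)
  have h1 : ∀ g : G, ∑ Y ∈ (fixedPGroups p ⊤ g).filter (H ≤ ·), up (fixedPGroups p ⊤ g) Y =
      if ∃ Y : Subgroup G, IsPGroup p Y ∧ H ≤ Y ∧ g ∈ Subgroup.normalizer (Y : Set G) then 1 else 0 := by
    intro g
    split_ifs with h
    · obtain ⟨Y, a, b, c⟩ := h
      exact sum_up_above (mem_fixedPGroups.mpr ⟨a, le_top, c⟩) b
    · refine Finset.sum_eq_zero fun Y hY => ?_
      obtain ⟨hY1, hY2⟩ := Finset.mem_filter.mp hY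
      exact absurd ⟨Y, (mem_fixedPGroups.mp hY1).1, hY2, (mem_fixedPGroups.mp hY1).2.2⟩ h
  have htot := Finset.sum_congr rfl fun g (_ : g ∈ (Finset.univ : Finset G)) => h1 g
  rw [Finset.sum_comm' (t' := Finset.univ.filter (fun Y : Subgroup G => IsPGroup p Y ∧ H ≤ Y))
    (s' := fun Y => Finset.univ.filter (fun g => g ∈ (⊤ : Subgroup G) ⊓ Subgroup.normalizer (Y : Set G))) (fun g Y => by
      simp only [Finset.mem_filter, Finset.mem_univ, true_and, mem_fixedPGroups, Subgroup.mem_inf, Subgroup.mem_top, le_top]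
      tauto)] at htot
  rw [Finset.sum_congr rfl fun Y hY => sum_up_eq (p := p) (Nat.card G + 1) Y ⊤ (by omega) (Finset.mem_filter.mp hY).2.1 le_top] at htot
  rw [Finset.sum_boole, ← Finset.sum_filter] at htot
  have hconst : ∀ Y : Subgroup G, IsMaxIn p ⊤ Y → (Nat.card ((⊤ : Subgroup G) ⊓ Subgroup.normalizer (Y : Set G) : Subgroup G) : ℤ) =
      Nat.card (Subgroup.normalizer ((P : Subgroup G) : Set G)) := by
    intro Y hY
    let Q : Sylow p G := ⟨Y, hY.1, fun h h' => hY.2.2 _ h le_top h'⟩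
    rw [top_inf_eq]
    have h := Subgroup.index_mul_card (Subgroup.normalizer ((Q : Subgroup G) : Set G))
    have h0 := Subgroup.index_mul_card (Subgroup.normalizer ((P : Subgroup G) : Set G))
    exact_mod_cast Nat.eq_of_mul_eq_mul_left (Nat.pos_of_ne_zero Subgroup.index_ne_zero_of_finite)
      ((h.trans h0.symm).trans (congrArg (· * _) (P.card_eq_index_normalizer.symm.trans Q.card_eq_index_normalizer)))
  rw [Finset.sum_congr rfl fun Y hY => hconst Y (Finset.mem_filter.mp hY).2, Finset.sum_const, nsmul_eq_mul] at htot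
  have e : ((Finset.univ.filter (fun Y : Subgroup G => IsPGroup p Y ∧ H ≤ Y)).filter (IsMaxIn p ⊤)).card =
      Nat.card {Q : Sylow p G // H ≤ (Q : Subgroup G)} := by
    rw [Finset.filter_filter, ← Fintype.card_subtype, ← Nat.card_eq_fintype_card]
    exact Nat.card_congr
      { toFun := fun Y => ⟨⟨Y.1, Y.2.2.1, fun h h' => Y.2.2.2.2 _ h le_top h'⟩, Y.2.1.2⟩
        invFun := fun Q => ⟨Q.1, ⟨Q.1.2, Q.2⟩, Q.1.2, le_top, fun Z h1 _ h3 => Q.1.3 h1 h3⟩
        left_inv := fun _ => rfl
        right_inv := fun _ => rfl }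
  rw [e] at htot
  rw [Nat.card_eq_fintype_card (α := {g : G // _}), Fintype.card_subtype]
  exact_mod_cast htot.symm

end CfsgLib.Subnormalizer
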