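import Mathlib
import Cfsg.Agent.Lib.Coprime.Action

/-!
Products of the orders of fixed-point subgroups over a coset and over a whole `p`-group acting
coprimely.
-/

set_option autoImplicit false
set_option linter.style.haveILetI false
set_option linter.unusedSectionVars false

namespace CfsgLib.Subnormalizer

universe u

/-- The fixed points of an automorphism. -/
abbrev fixedBy {W : Type u} [Group W] (a : MulAut W) : Subgroup W := (a : W →* W).eqLocus (MonoidHom.id W)

section abelian

variable {V : Type u} [CommGroup V] [Finite V] {p : ℕ}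

theorem mem_fixedBy {a : MulAut V} {v : V} : v ∈ fixedBy a ↔ a v = v := Iff.rfl

theorem fixed_of_pow {a : MulAut V} {m : ℕ} (hm : m.Coprime p) (hap : a ^ p = 1) {v : V}
    (h : (a ^ m) v = v) : a v = v := by
  have hst : a ^ m ∈ MulAction.stabilizer (MulAut V) v := h
  have hsp : a ^ p ∈ MulAction.stabilizer (MulAut V) v := hap ▸ one_mem _
  have h2 := Int.gcd_eq_gcd_ab (m : ℤ) (p : ℤ)
  rw [Int.gcd_natCast_natCast, hm.gcd_eq_one] at h2
  have h3 : a = (a ^ m) ^ (Int.gcdA m p) * (a ^ p) ^ (Int.gcdB m p) := by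
    rw [← zpow_natCast a m, ← zpow_natCast a p, ← zpow_mul, ← zpow_mul, ← zpow_add, ← h2, Nat.cast_one, zpow_one]
  have h4 : a ∈ MulAction.stabilizer (MulAut V) v := by
    rw [h3]
    exact mul_mem (zpow_mem hst _) (zpow_mem hsp _)
  exact h4

/-- The components of a relation between fixed points on the lines of a rank two group are fixed by
both generators. -/
theorem mem_fixedBy_of_relation (hp : p.Prime) (hcop : p.Coprime (Nat.card V)) {X Z : MulAut V}
    (hXZ : Commute X Z) (hZ : Z ^ p = 1) (v : Fin p → V) (hv : ∀ i : Fin p, (X * Z ^ (i : ℕ)) (v i) = v i)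
    (w : V) (hw : Z w = w) (hrel : (∏ i, v i) * w = 1) : ∀ i, Z (v i) = v i := by
  classical
  have hc : ∀ (k : ℕ) (u : V), X ((Z ^ k) u) = (Z ^ k) (X u) := fun k u =>
    DFunLike.congr_fun (hXZ.pow_right k).eq u
  -- the complementary projection to the fixed points of `Z`
  let τ : V →* V := ∏ j ∈ Finset.range p, ((Z ^ j : MulAut V) : V →* V)
  have hτ : ∀ u, τ u = ∏ j ∈ Finset.range p, (Z ^ j) u := fun u => MonoidHom.finsetProd_apply _ _ _
  let π : V →* V := powMonoidHom p / τ
  have hπ : ∀ u, π u = u ^ p / τ u := fun u => rfl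
  have hτfix : ∀ u, Z u = u → τ u = u ^ p := by
    intro u hu
    rw [hτ, Finset.prod_congr rfl (fun j _ => show (Z ^ j) u = u from
      (MulAction.stabilizer (MulAut V) u).pow_mem (show Z ∈ _ from hu) j), Finset.prod_const,
      Finset.card_range]
  have hπfix : ∀ u, Z u = u → π u = 1 := fun u hu => by rw [hπ, hτfix u hu, div_self']
  have hZτ : ∀ u, Z (τ u) = τ u := by
    intro u
    rw [hτ, map_prod]
    have h1 := Finset.prod_range_succ' (fun j => (Z ^ j) u) p
    have h2 := Finset.prod_range_succ (fun j => (Z ^ j) u) p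
    rw [h2, hZ, pow_zero] at h1
    refine Eq.trans (Finset.prod_congr rfl fun j _ => ?_) (mul_right_cancel h1).symm
    rw [pow_succ']
    rfl
  have hτπ : ∀ u, τ (π u) = 1 := fun u => by
    rw [hπ, map_div, map_pow, hτfix _ (hZτ u), div_self']
  have hπeq : ∀ u, π u = 1 → Z u = u := by
    intro u hu
    rw [hπ, div_eq_one] at hu
    have h : (Z u) ^ p = u ^ p := by rw [← map_pow, hu, hZτ]
    exact (powCoprime hcop.symm).injective h
  have hcomm : ∀ (k : ℕ) u, (X * Z ^ k) (π u) = π ((X * Z ^ k) u) := by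
    intro k u
    rw [hπ, hπ, map_div, map_pow, hτ, hτ, map_prod]
    congr 1
    refine Finset.prod_congr rfl fun j _ => ?_
    have e : X * Z ^ k * Z ^ j = Z ^ j * (X * Z ^ k) := by
      rw [← mul_assoc (Z ^ j), ← (hXZ.pow_right j).eq, mul_assoc, mul_assoc, ← pow_add, ← pow_add, add_comm]
    exact DFunLike.congr_fun e u
  have key : ∀ (s : Finset (Fin p)) (u : Fin p → V), (∀ i : Fin p, (X * Z ^ (i : ℕ)) (u i) = u i) →
      (∀ i, τ (u i) = 1) → ∏ i ∈ s, u i = 1 → ∀ i ∈ s, u i = 1 := by
    intro s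
    induction s using Finset.induction_on with
    | empty => simp
    | @insert a s ha ih =>
      intro u hu hτu hprod
      let D : V →* V := (((X * Z ^ (a : ℕ) : MulAut V)) : V →* V) / MonoidHom.id V
      have hD : ∀ w, D w = (X * Z ^ (a : ℕ)) w / w := fun w => rfl
      have hs : ∀ i ∈ s, u i = 1 := by
        have hDi := ih (fun i => D (u i))
          (fun i => by
            have e : (X * Z ^ (i : ℕ)) * (X * Z ^ (a : ℕ)) = (X * Z ^ (a : ℕ)) * (X * Z ^ (i : ℕ)) :=
              (((Commute.refl X).mul_right (hXZ.pow_right a)).mul_left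
                ((hXZ.pow_right i).symm.mul_right (Commute.pow_pow_self Z i a))).eq
            rw [hD, map_div, hu i, show (X * Z ^ (i : ℕ)) ((X * Z ^ (a : ℕ)) (u i)) = _ from
              DFunLike.congr_fun e (u i)]
            show (X * Z ^ (a : ℕ)) ((X * Z ^ (i : ℕ)) (u i)) / u i = _
            rw [hu i])
          (fun i => by
            have e : τ ((X * Z ^ (a : ℕ)) (u i)) = (X * Z ^ (a : ℕ)) (τ (u i)) := by
              rw [hτ, hτ, map_prod]
              refine Finset.prod_congr rfl fun j _ => ?_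
              have e : X * Z ^ (a : ℕ) * Z ^ j = Z ^ j * (X * Z ^ (a : ℕ)) := by
                rw [← mul_assoc (Z ^ j), ← (hXZ.pow_right j).eq, mul_assoc, mul_assoc, ← pow_add,
                  ← pow_add, add_comm]
              exact (DFunLike.congr_fun e (u i)).symm
            rw [hD, map_div, e, hτu i, map_one, div_self'])
          (by
            rw [Finset.prod_insert ha] at hprod
            have := congrArg D hprod
            rwa [map_mul, map_one, map_prod, hD (u a), hu a, div_self', one_mul] at this)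
        intro i hi
        have h1 : (X * Z ^ (a : ℕ)) (u i) = u i := by
          have := hDi i hi
          rwa [hD, div_eq_one] at this
        have h2 : (Z ^ (a : ℕ)) (u i) = (Z ^ (i : ℕ)) (u i) := X.injective (h1.trans (hu i).symm)
        have hne : (i : ℕ) ≠ a := fun e => ha (Fin.ext e ▸ hi)
        have hfix : Z (u i) = u i := by
          rcases Nat.lt_or_ge (i : ℕ) a with hlt | hge
          · refine fixed_of_pow (m := (a : ℕ) - i) ?_ hZ ?_
            · exact Nat.coprime_comm.1 (hp.coprime_iff_not_dvd.2 fun hd =>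
                absurd (Nat.le_of_dvd (by omega) hd) (by have := a.2; omega))
            · apply (Z ^ (i : ℕ)).injective
              rw [← MulAut.mul_apply, ← pow_add, show (i : ℕ) + ((a : ℕ) - i) = a by omega, h2]
          · refine fixed_of_pow (m := (i : ℕ) - a) ?_ hZ ?_
            · exact Nat.coprime_comm.1 (hp.coprime_iff_not_dvd.2 fun hd =>
                absurd (Nat.le_of_dvd (by omega) hd) (by have := i.2; omega))
            · apply (Z ^ (a : ℕ)).injective
              rw [← MulAut.mul_apply, ← pow_add, show (a : ℕ) + ((i : ℕ) - a) = i by omega, ← h2]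
        have h4 := hτu i
        rw [hτfix _ hfix] at h4
        exact (powCoprime hcop.symm).injective (h4.trans (one_pow p).symm)
      intro i hi
      rcases Finset.mem_insert.1 hi with rfl | hi
      · rwa [Finset.prod_insert ha, Finset.prod_eq_one hs, mul_one] at hprod
      · exact hs i hi
  intro i
  refine hπeq _ (key Finset.univ (fun i => π (v i)) (fun i => by rw [hcomm, hv i]) (fun i => hτπ _) ?_ i
    (Finset.mem_univ i))
  rw [← map_prod, eq_inv_of_mul_eq_one_left hrel, map_inv, hπfix w hw, inv_one]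

/-- The abelian case of the product inequality. -/
theorem prod_fixedBy_dvd (hp : p.Prime) (hcop : p.Coprime (Nat.card V)) {X Z : MulAut V}
    (hXZ : Commute X Z) (hZ : Z ^ p = 1) :
    (∏ i ∈ Finset.range p, Nat.card (fixedBy (X * Z ^ i))) * Nat.card (fixedBy Z) ∣
      Nat.card V * Nat.card ↥(fixedBy X ⊓ fixedBy Z) ^ p := by
  classical
  let Φ : ((i : Fin p) → fixedBy (X * Z ^ (i : ℕ))) × fixedBy Z →* V :=
    { toFun := fun a => (∏ i, (a.1 i : V)) * a.2
      map_one' := by simp
      map_mul' := fun a b => by simp [Finset.prod_mul_distrib, mul_mul_mul_comm] }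
  have hdom : Nat.card (((i : Fin p) → fixedBy (X * Z ^ (i : ℕ))) × fixedBy Z) =
      (∏ i ∈ Finset.range p, Nat.card (fixedBy (X * Z ^ i))) * Nat.card (fixedBy Z) := by
    rw [Nat.card_prod, Nat.card_pi, Finset.prod_range]
  have hmem : ∀ a : Φ.ker, ∀ i : Fin p, ((a.1.1 i : V)) ∈ fixedBy X ⊓ fixedBy Z := by
    intro a i
    have h := mem_fixedBy_of_relation hp hcop hXZ hZ (fun i => (a.1.1 i : V)) (fun i => (a.1.1 i).2)
      a.1.2 a.1.2.2 a.2 i
    have h1 : (X * Z ^ (i : ℕ)) (a.1.1 i : V) = a.1.1 i := (a.1.1 i).2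
    rw [MulAut.mul_apply, show (Z ^ (i : ℕ)) (a.1.1 i : V) = a.1.1 i from
      (MulAction.stabilizer (MulAut V) (a.1.1 i : V)).pow_mem (show Z ∈ _ from h) _] at h1
    exact ⟨h1, h⟩
  let ψ : Φ.ker →* (Fin p → ↥(fixedBy X ⊓ fixedBy Z)) :=
    { toFun := fun a i => ⟨(a.1.1 i : V), hmem a i⟩
      map_one' := rfl
      map_mul' := fun a b => rfl }
  have hψ : Function.Injective ψ := by
    intro a b e
    have e1 : a.1.1 = b.1.1 := funext fun i => Subtype.ext (congrArg (fun c => ((c i : _) : V)) e)
    refine Subtype.ext (Prod.ext e1 (Subtype.ext ?_))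
    have ha : (∏ i, (a.1.1 i : V)) * a.1.2 = 1 := a.2
    have hb : (∏ i, (b.1.1 i : V)) * b.1.2 = 1 := b.2
    rw [e1] at ha
    exact mul_left_cancel (ha.trans hb.symm)
  rw [← hdom, ← Subgroup.card_mul_index Φ.ker, Subgroup.index_ker, mul_comm (Nat.card V)]
  refine Nat.mul_dvd_mul ?_ (Subgroup.card_subgroup_dvd_card _)
  have := Subgroup.card_dvd_of_injective ψ hψ
  rwa [Nat.card_fun, Nat.card_fin] at this

end abelian

section group

variable {G : Type u} [Group G] [Finite G] {p : ℕ}

/-- The fixed points in `K` of the conjugations by a set of elements. -/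
abbrev fixIn (K : Subgroup G) (S : Set G) : Subgroup G := K ⊓ Subgroup.centralizer S

theorem card_fixIn_map {K N : Subgroup G} [N.Normal] (hNK : N ≤ K) {S : Set G}
    (hS : Subgroup.closure S ≤ Subgroup.normalizer (K : Set G))
    (hcop : (Nat.card (Subgroup.closure S)).Coprime (Nat.card K))
    (hsolv : Group.IsSolvable (Subgroup.closure S)) :
    Nat.card (fixIn K S) =
      Nat.card (fixIn N S) * Nat.card (fixIn (K.map (QuotientGroup.mk' N)) (QuotientGroup.mk' N '' S)) := by
  have hmap := CfsgLib.Coprime.map_inf_centralizer hS hcop (Or.inl hsolv) (QuotientGroup.mk' N)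
  rw [MonoidHom.map_closure, Subgroup.centralizer_closure, Subgroup.centralizer_closure] at hmap
  show Nat.card (fixIn K S) = Nat.card (fixIn N S) *
    Nat.card ↥(K.map (QuotientGroup.mk' N) ⊓ Subgroup.centralizer (QuotientGroup.mk' N '' S))
  rw [← hmap]
  have h2 := Subgroup.relIndex_mul_relIndex ⊥ (fixIn N S) (fixIn K S) bot_le (inf_le_inf_right _ hNK)
  rw [Subgroup.relIndex_bot_left, Subgroup.relIndex_bot_left] at h2
  rw [← h2]
  congr 1
  rw [← Subgroup.relIndex_bot_left, ← Subgroup.relIndex_comap, MonoidHom.comap_bot, QuotientGroup.ker_mk',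
    ← Subgroup.inf_relIndex_right N (fixIn K S)]
  congr 1
  simp only [fixIn, ← inf_assoc, inf_eq_left.2 hNK]

theorem card_fixedBy_conjNormal (V : Subgroup G) [V.Normal] (a : G) :
    Nat.card (fixedBy (MulAut.conjNormal a : MulAut V)) =
      Nat.card (fixIn V {a}) := by
  refine Nat.card_congr
    { toFun := fun v => ⟨(v.1 : G), v.1.2, Subgroup.mem_centralizer_singleton_iff.2 ?_⟩
      invFun := fun v => ⟨⟨v.1, v.2.1⟩, Subtype.ext ?_⟩
      left_inv := fun v => rfl
      right_inv := fun v => rfl }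
  · have h := congrArg Subtype.val v.2
    rw [MonoidHom.coe_coe, MulAut.conjNormal_apply] at h
    exact (mul_inv_eq_iff_eq_mul.1 h).symm
  · rw [MonoidHom.coe_coe, MulAut.conjNormal_apply]
    show a * (v : G) * a⁻¹ = v
    rw [← Subgroup.mem_centralizer_singleton_iff.1 v.2.2, mul_inv_cancel_right]

/-- The product inequality on an `r`-group. -/
theorem prod_fixIn_dvd_of_isPGroup {r : ℕ} [Fact r.Prime] :
    ∀ (m : ℕ) {G : Type u} [Group G] [Finite G] (R P : Subgroup G) [R.Normal] (x z : G),
      Nat.card R ≤ m → IsPGroup r R → p.Prime → IsPGroup p P → p.Coprime (Nat.card R) →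
      x ∈ P → z ∈ P → (∀ v ∈ R, x * z * v * (x * z)⁻¹ = z * x * v * (z * x)⁻¹) →
      (∀ v ∈ R, z ^ p * v = v * z ^ p) →
      (∏ i ∈ Finset.range p, Nat.card (fixIn R {x * z ^ i})) * Nat.card (fixIn R {z}) ∣
        Nat.card R * Nat.card (fixIn R {x, z}) ^ p := by
  intro m
  induction m with
  | zero =>
    intro G _ _ R P _ x z hm
    exact absurd hm (Nat.not_le.2 Nat.card_pos)
  | succ m ih =>
    intro G _ _ R P _ x z hm hR hp hP hcop hx hz hxz hzp
    haveI := Fact.mk hp
    by_cases hab : IsMulCommutative R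
    · letI : CommGroup R := { (inferInstance : Group R) with mul_comm := fun a b => hab.1.1 a b }
      have h := prod_fixedBy_dvd (V := R) hp hcop (X := MulAut.conjNormal x) (Z := MulAut.conjNormal z)
        (MulEquiv.ext fun v => Subtype.ext (by
          have := hxz v v.2
          simpa [MulAut.mul_apply, MulAut.conjNormal_apply, mul_assoc] using this))
        (by
          rw [← map_pow]
          refine MulEquiv.ext fun v => Subtype.ext ?_
          rw [MulAut.conjNormal_apply, hzp v v.2, mul_inv_cancel_right]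
          rfl)
      have e1 : ∀ i, Nat.card (fixedBy ((MulAut.conjNormal x : MulAut R) * MulAut.conjNormal z ^ i)) =
          Nat.card (fixIn R {x * z ^ i}) := fun i => by
        rw [← map_pow, ← map_mul]
        exact card_fixedBy_conjNormal R _
      have e2 : Nat.card (fixedBy (MulAut.conjNormal z : MulAut R)) = Nat.card (fixIn R {z}) :=
        card_fixedBy_conjNormal R z
      have e3 : Nat.card ↥(fixedBy (MulAut.conjNormal x : MulAut R) ⊓ fixedBy (MulAut.conjNormal z)) =
          Nat.card (fixIn R {x, z}) := by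
        refine Nat.card_congr
          { toFun := fun v => ⟨(v.1 : G), v.1.2, ?_⟩
            invFun := fun v => ⟨⟨v.1, v.2.1⟩, Subtype.ext ?_, Subtype.ext ?_⟩
            left_inv := fun v => rfl
            right_inv := fun v => rfl }
        · rintro a (rfl | rfl)
          · exact mul_inv_eq_iff_eq_mul.1 (congrArg Subtype.val v.2.1)
          · exact mul_inv_eq_iff_eq_mul.1 (congrArg Subtype.val v.2.2)
        · show x * (v : G) * x⁻¹ = v
          rw [v.2.2 x (Set.mem_insert _ _), mul_inv_cancel_right]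
        · show z * (v : G) * z⁻¹ = v
          rw [v.2.2 z (Set.mem_insert_of_mem _ rfl), mul_inv_cancel_right]
      simp only [e1, e2, e3] at h
      exact h
    haveI : Nontrivial R := by
      by_contra hn
      rw [not_nontrivial_iff_subsingleton] at hn
      exact hab ⟨⟨fun a b => Subsingleton.elim _ _⟩⟩
    set Z := (Subgroup.center R).map R.subtype with hZ
    haveI : Z.Normal := ConjAct.normal_of_characteristic_of_normal
    have hZR : Z ≤ R := Subgroup.map_subtype_le _
    haveI := hR.center_nontrivial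
    have hZ1 : 1 < Nat.card Z := by
      rw [hZ, Subgroup.card_map_of_injective R.subtype_injective]
      exact Finite.one_lt_card
    have hZlt : Nat.card Z < Nat.card R := by
      rw [hZ, Subgroup.card_map_of_injective R.subtype_injective]
      refine lt_of_le_of_ne (Subgroup.card_le_card_group _) fun e => hab ?_
      have htop := Subgroup.eq_top_of_card_eq _ e
      exact ⟨⟨fun a b => (Subgroup.mem_center_iff.1 (htop ▸ Subgroup.mem_top a) b).symm⟩⟩
    set f := QuotientGroup.mk' Z with hf
    haveI : (R.map f).Normal := Subgroup.Normal.map inferInstance f (QuotientGroup.mk'_surjective _)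
    have hcard : Nat.card R = Nat.card Z * Nat.card (R.map f) := by
      have h2 := Subgroup.relIndex_mul_relIndex ⊥ Z R bot_le hZR
      rw [Subgroup.relIndex_bot_left, Subgroup.relIndex_bot_left] at h2
      rw [← h2]
      congr 1
      rw [← Subgroup.relIndex_bot_left, ← Subgroup.relIndex_comap, MonoidHom.comap_bot, hf,
        QuotientGroup.ker_mk']
    have hsplit : ∀ S : Set G, S ⊆ P → Nat.card (fixIn R S) =
        Nat.card (fixIn Z S) * Nat.card (fixIn (R.map f) (f '' S)) := fun S hS => by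
      have hA : Subgroup.closure S ≤ P := (Subgroup.closure_le P).2 hS
      obtain ⟨a, ha⟩ := IsPGroup.iff_card.1 (hP.to_le hA)
      exact card_fixIn_map hZR Subgroup.le_normalizer_of_normal (by rw [ha]; exact hcop.pow_left a)
        (by haveI := (hP.to_le hA).isNilpotent; infer_instance)
    have hcz := ih Z P x z (by omega) (hR.to_le hZR) hp hP
      (hcop.coprime_dvd_right (Subgroup.card_dvd_of_le hZR)) hx hz (fun v hv => hxz v (hZR hv))
      (fun v hv => hzp v (hZR hv))
    have hlt : Nat.card (R.map f) ≤ m := by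
      have : Nat.card Z * Nat.card (R.map f) ≤ m + 1 := hcard ▸ hm
      nlinarith [Nat.card_pos (α := R.map f)]
    have hcb := ih (R.map f) (P.map f) (f x) (f z) hlt (hR.map f) hp (hP.map f)
      (hcop.coprime_dvd_right (Subgroup.card_map_dvd R f)) (Subgroup.mem_map_of_mem f hx)
      (Subgroup.mem_map_of_mem f hz)
      (by
        rintro - ⟨v, hv, rfl⟩
        simpa using congrArg f (hxz v hv))
      (by
        rintro - ⟨v, hv, rfl⟩
        simpa using congrArg f (hzp v hv))
    have e1 : ∀ i ∈ Finset.range p, Nat.card (fixIn R {x * z ^ i}) =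
        Nat.card (fixIn Z {x * z ^ i}) * Nat.card (fixIn (R.map f) {f x * f z ^ i}) := fun i _ => by
      rw [hsplit _ (Set.singleton_subset_iff.2 (mul_mem hx (pow_mem hz i))), Set.image_singleton, map_mul,
        map_pow]
    have e2 : Nat.card (fixIn R {z}) = Nat.card (fixIn Z {z}) * Nat.card (fixIn (R.map f) {f z}) := by
      rw [hsplit _ (Set.singleton_subset_iff.2 hz), Set.image_singleton]
    have e3 : Nat.card (fixIn R {x, z}) = Nat.card (fixIn Z {x, z}) * Nat.card (fixIn (R.map f) {f x, f z}) := by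
      rw [hsplit _ (Set.insert_subset_iff.2 ⟨hx, Set.singleton_subset_iff.2 hz⟩), Set.image_insert_eq,
        Set.image_singleton]
    rw [Finset.prod_congr rfl e1, Finset.prod_mul_distrib, e2, e3, hcard, mul_pow,
      mul_mul_mul_comm, mul_mul_mul_comm (Nat.card Z)]
    exact Nat.mul_dvd_mul hcz hcb

/-- Elements commuting with all conjugations induced on `K` permute the fixed points. -/
theorem conj_mem_fixIn {K : Subgroup G} {a : G} (haK : a ∈ Subgroup.normalizer (K : Set G)) {S : Set G}
    (hS : ∀ e ∈ S, ∀ v ∈ K, e * a * v * (e * a)⁻¹ = a * e * v * (a * e)⁻¹) {v : G} (hv : v ∈ fixIn K S) :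
    a * v * a⁻¹ ∈ fixIn K S := by
  refine ⟨(Subgroup.mem_normalizer_iff.1 haK v).1 hv.1, fun e he => ?_⟩
  have h1 : e * v * e⁻¹ = v := by rw [hv.2 e he, mul_inv_cancel_right]
  calc e * (a * v * a⁻¹) = (e * a * v * (e * a)⁻¹) * e := by group
    _ = (a * e * v * (a * e)⁻¹) * e := by rw [hS e he v hv.1]
    _ = (a * (e * v * e⁻¹) * a⁻¹) * e := by group
    _ = a * v * a⁻¹ * e := by rw [h1]

theorem le_normalizer_fixIn {K : Subgroup G} {T : Set G} (hT : T ⊆ Subgroup.normalizer (K : Set G))
    {S : Set G} (hS : ∀ a ∈ T, ∀ e ∈ S, ∀ v ∈ K, e * a * v * (e * a)⁻¹ = a * e * v * (a * e)⁻¹) :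
    Subgroup.closure T ≤ Subgroup.normalizer ((fixIn K S : Subgroup G) : Set G) := by
  refine (Subgroup.closure_le _).2 fun a ha => Subgroup.mem_normalizer_iff.2 fun v => ⟨?_, fun h => ?_⟩
  · exact fun hv => conj_mem_fixIn (hT ha) (fun e he => hS a ha e he) hv
  · have hsurj := Finite.injective_iff_surjective.1
      (show Function.Injective fun w : fixIn K S =>
          (⟨a * w * a⁻¹, conj_mem_fixIn (hT ha) (fun e he => hS a ha e he) w.2⟩ : fixIn K S) from
        fun w₁ w₂ e => Subtype.ext (by simpa using congrArg Subtype.val e))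
    obtain ⟨w, hw⟩ := hsurj ⟨_, h⟩
    have : a * (w : G) * a⁻¹ = a * v * a⁻¹ := congrArg Subtype.val hw
    rw [← mul_left_cancel (mul_right_cancel this)]
    exact w.2

/-- The `r`-part of a fixed-point subgroup, seen in an invariant Sylow subgroup. -/
theorem card_fixIn_sylow [Fact p.Prime] {r : ℕ} [Fact r.Prime] {K A : Subgroup G}
    (hAK : A ≤ Subgroup.normalizer (K : Set G)) (hA : IsPGroup p A) (hcop : p.Coprime (Nat.card K))
    (R : Sylow r K) (hR : A ≤ Subgroup.normalizer ((R : Subgroup K).map K.subtype : Set G))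
    {S : Set G} (hSA : S ⊆ A) (hW : A ≤ Subgroup.normalizer ((fixIn K S : Subgroup G) : Set G)) :
    Nat.card (fixIn ((R : Subgroup K).map K.subtype) S) =
      r ^ (Nat.card (fixIn K S)).factorization r := by
  haveI := hA.isNilpotent
  obtain ⟨a, ha⟩ := IsPGroup.iff_card.1 hA
  have hcA : ∀ {W : Subgroup G}, W ≤ K → (Nat.card A).Coprime (Nat.card W) := fun hWK =>
    ha ▸ (hcop.coprime_dvd_right (Subgroup.card_dvd_of_le hWK)).pow_left a
  obtain ⟨S₀, hS₀⟩ := CfsgLib.Coprime.exists_invariant_sylow hW (hcA inf_le_left) (Or.inl inferInstance) r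
  set U := (S₀ : Subgroup (fixIn K S)).map (fixIn K S).subtype with hU
  obtain ⟨R', hUR', hR'⟩ := CfsgLib.Coprime.exists_invariant_sylow_ge hAK (hcA le_rfl) (Or.inl inferInstance)
    ((Subgroup.map_subtype_le _).trans inf_le_left : U ≤ K) (S₀.2.map _) hS₀
  obtain ⟨c, hc, hcR⟩ := CfsgLib.Coprime.invariant_sylow_conj hAK (hcA le_rfl) (Or.inl inferInstance) R' R hR' hR
  refine le_antisymm ?_ ?_
  · obtain ⟨k, hk⟩ := (((R.2.map K.subtype)).to_le (inf_le_left : fixIn _ S ≤ _)).exists_card_eq
    rw [hk]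
    refine Nat.pow_le_pow_right (Fact.out : r.Prime).pos
      (((Fact.out : r.Prime).pow_dvd_iff_le_factorization Nat.card_pos.ne').1 ?_)
    rw [← hk]
    exact Subgroup.card_dvd_of_le (inf_le_inf_right _ (Subgroup.map_subtype_le _))
  · rw [← S₀.card_eq_multiplicity]
    refine le_trans (le_of_eq ?_) (Subgroup.card_le_of_le
      (show U.map (MulAut.conj (c : G)).toMonoidHom ≤ fixIn ((R : Subgroup K).map K.subtype) S from ?_))
    · rw [Subgroup.card_map_of_injective (MulAut.conj (c : G)).injective, hU,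
        Subgroup.card_map_of_injective (fixIn K S).subtype_injective]
    · rintro - ⟨u, hu, rfl⟩
      refine ⟨?_, fun e he => ?_⟩
      · rw [← hcR, CfsgLib.Coprime.map_subtype_conj_smul_sylow]
        exact Subgroup.smul_mem_pointwise_smul u (MulAut.conj (c : G)) _ (hUR' hu)
      · have h1 := ((Subgroup.map_subtype_le _) hu : u ∈ fixIn K S).2 e he
        have h2 : Commute e (c : G) := hc e (hSA he)
        exact ((h2.mul_right h1).mul_right h2.inv_right).eq

/-- The product inequality on a coset. -/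
theorem prod_fixIn_dvd [Fact p.Prime] {K P : Subgroup G} (hPK : P ≤ Subgroup.normalizer (K : Set G))
    (hP : IsPGroup p P) (hcop : p.Coprime (Nat.card K)) {x z : G} (hx : x ∈ P) (hz : z ∈ P)
    (hxz : ∀ v ∈ K, x * z * v * (x * z)⁻¹ = z * x * v * (z * x)⁻¹)
    (hzp : ∀ v ∈ K, z ^ p * v = v * z ^ p) :
    (∏ i ∈ Finset.range p, Nat.card (fixIn K {x * z ^ i})) * Nat.card (fixIn K {z}) ∣
      Nat.card K * Nat.card (fixIn K {x, z}) ^ p := by
  classical
  set A := Subgroup.closure ({x, z} : Set G) with hA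
  have hAP : A ≤ P := (Subgroup.closure_le P).2 (Set.insert_subset_iff.2 ⟨hx, Set.singleton_subset_iff.2 hz⟩)
  have hAK : A ≤ Subgroup.normalizer (K : Set G) := hAP.trans hPK
  have hxA : x ∈ A := Subgroup.subset_closure (Set.mem_insert _ _)
  have hzA : z ∈ A := Subgroup.subset_closure (Set.mem_insert_of_mem _ rfl)
  -- the conjugations on `K` commute
  set N := Subgroup.normalizer (K : Set G)
  set xN : N := ⟨x, hPK hx⟩
  set zN : N := ⟨z, hPK hz⟩
  have hφ : Commute (K.normalizerMonoidHom xN) (K.normalizerMonoidHom zN) :=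
    MulEquiv.ext fun v => Subtype.ext (by
      have := hxz v v.2
      simpa [mul_assoc, xN, zN] using this)
  have hcomm : ∀ a b : N, Commute (K.normalizerMonoidHom a) (K.normalizerMonoidHom b) →
      ∀ v ∈ K, (b : G) * a * v * ((b : G) * a)⁻¹ = (a : G) * b * v * ((a : G) * b)⁻¹ := fun a b h v hv => by
    have := congrArg Subtype.val (DFunLike.congr_fun h.symm.eq ⟨v, hv⟩)
    simpa [mul_assoc] using this
  have hgen : ∀ a ∈ ({x, z} : Set G), ∃ aN : N, (aN : G) = a ∧
      Commute (K.normalizerMonoidHom aN) (K.normalizerMonoidHom xN) ∧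
      Commute (K.normalizerMonoidHom aN) (K.normalizerMonoidHom zN) := by
    rintro a (rfl | rfl)
    · exact ⟨xN, rfl, Commute.refl _, hφ⟩
    · exact ⟨zN, rfl, hφ.symm, Commute.refl _⟩
  have hsub : ({x, z} : Set G) ⊆ N :=
    Set.insert_subset_iff.2 ⟨hPK hx, Set.singleton_subset_iff.2 (hPK hz)⟩
  have hW : ∀ S : Set G, (∀ e ∈ S, (∃ i : ℕ, e = x * z ^ i) ∨ e = z ∨ e = x) →
      A ≤ Subgroup.normalizer ((fixIn K S : Subgroup G) : Set G) := by
    intro S hS
    refine le_normalizer_fixIn hsub fun a ha e he v hv => ?_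
    obtain ⟨aN, rfl, hax, haz⟩ := hgen a ha
    rcases hS e he with ⟨i, rfl⟩ | rfl | rfl
    · refine hcomm aN (xN * zN ^ i) ?_ v hv
      rw [map_mul, map_pow]
      exact hax.mul_right (haz.pow_right i)
    · exact hcomm aN zN haz v hv
    · exact hcomm aN xN hax v hv
  rw [← Nat.factorization_le_iff_dvd (mul_ne_zero (Finset.prod_ne_zero_iff.2 fun i _ => Nat.card_pos.ne')
    Nat.card_pos.ne') (mul_ne_zero Nat.card_pos.ne' (pow_ne_zero _ Nat.card_pos.ne'))]
  intro r
  by_cases hr : r.Prime
  swap; · simp [Nat.factorization_eq_zero_of_not_prime _ hr]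
  haveI := Fact.mk hr
  obtain ⟨a, ha⟩ := IsPGroup.iff_card.1 (hP.to_le hAP)
  haveI := (hP.to_le hAP).isNilpotent
  obtain ⟨R, hR⟩ := CfsgLib.Coprime.exists_invariant_sylow hAK (ha ▸ hcop.pow_left a) (Or.inl inferInstance) r
  set R' := (R : Subgroup K).map K.subtype with hR'
  -- pass to the group generated by the Sylow subgroup and `A`
  set L := R' ⊔ A with hL
  haveI : (R'.subgroupOf L).Normal := Subgroup.normal_subgroupOf_of_le_normalizer
    (sup_le Subgroup.le_normalizer hR)
  have hR'K : R' ≤ K := Subgroup.map_subtype_le _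
  have key := prod_fixIn_dvd_of_isPGroup (p := p) (r := r) (Nat.card (R'.subgroupOf L)) (R'.subgroupOf L)
    (A.subgroupOf L) ⟨x, Subgroup.mem_sup_right hxA⟩ ⟨z, Subgroup.mem_sup_right hzA⟩ le_rfl
    ((R.2.map K.subtype).comap_of_injective L.subtype L.subtype_injective) Fact.out
    ((hP.to_le hAP).comap_of_injective L.subtype L.subtype_injective)
    (by
      rw [Nat.card_congr (Subgroup.subgroupOfEquivOfLe le_sup_left).toEquiv]
      exact hcop.coprime_dvd_right (Subgroup.card_dvd_of_le hR'K))
    hxA hzA (fun v hv => Subtype.ext (hxz _ (hR'K hv))) (fun v hv => Subtype.ext (hzp _ (hR'K hv)))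
  have hcL : ∀ S : Set L, Nat.card (fixIn (R'.subgroupOf L) S) = Nat.card (fixIn R' (Subtype.val '' S)) := by
    intro S
    refine Nat.card_congr
      { toFun := fun v => ⟨(v.1 : G), v.2.1, ?_⟩
        invFun := fun v => ⟨⟨v.1, Subgroup.mem_sup_left v.2.1⟩, v.2.1, fun e he => Subtype.ext ?_⟩
        left_inv := fun v => rfl
        right_inv := fun v => rfl }
    · rintro - ⟨e, he, rfl⟩
      exact congrArg Subtype.val (v.2.2 e he)
    · exact v.2.2 e ⟨e, he, rfl⟩
  simp only [hcL, Set.image_singleton, Set.image_insert_eq, Subgroup.coe_mul, Subgroup.coe_pow] at key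
  rw [Nat.card_congr (Subgroup.subgroupOfEquivOfLe (le_sup_left : R' ≤ L)).toEquiv] at key
  have hfact : ∀ S : Set G, S ⊆ A → (∀ e ∈ S, (∃ i : ℕ, e = x * z ^ i) ∨ e = z ∨ e = x) →
      Nat.card (fixIn R' S) = r ^ (Nat.card (fixIn K S)).factorization r :=
    fun S h1 h2 => card_fixIn_sylow hAK (hP.to_le hAP) hcop R hR h1 (hW S h2)
  have e1 : ∀ i ∈ Finset.range p, Nat.card (fixIn R' {x * z ^ i}) =
      r ^ (Nat.card (fixIn K {x * z ^ i})).factorization r := fun i _ =>
    hfact _ (Set.singleton_subset_iff.2 (mul_mem hxA (pow_mem hzA i))) fun e he => Or.inl ⟨i, he⟩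
  rw [Finset.prod_congr rfl e1, Finset.prod_pow_eq_pow_sum,
    hfact {z} (Set.singleton_subset_iff.2 hzA) (fun e he => Or.inr (Or.inl he)),
    hfact {x, z} Subgroup.subset_closure (fun e he => by
      rcases he with rfl | rfl
      · exact Or.inr (Or.inr rfl)
      · exact Or.inr (Or.inl rfl)),
    show Nat.card R' = r ^ (Nat.card K).factorization r by
      rw [hR', Subgroup.card_map_of_injective K.subtype_injective]; exact R.card_eq_multiplicity,
    ← pow_mul, ← pow_add, ← pow_add, Nat.pow_dvd_pow_iff_le_right hr.one_lt] at key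
  rw [Nat.factorization_mul (Finset.prod_ne_zero_iff.2 fun i _ => Nat.card_pos.ne') Nat.card_pos.ne',
    Nat.factorization_mul Nat.card_pos.ne' (pow_ne_zero _ Nat.card_pos.ne'),
    Nat.factorization_prod (fun i _ => Nat.card_pos.ne'), Nat.factorization_pow]
  simp only [Finsupp.add_apply, Finsupp.finsetSum_apply, Finsupp.smul_apply, smul_eq_mul]
  rw [mul_comm p]
  exact key

set_option maxHeartbeats 400000 in
/-- The product inequality over a whole `p`-group, indexed along a homomorphism. -/
theorem prod_fixIn_pow_le [Fact p.Prime] {T : Type u} [Group T] [Fintype T] (φ : T →* G)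
    (hT : IsPGroup p φ.range) :
    ∀ K : Subgroup G, φ.range ≤ Subgroup.normalizer (K : Set G) → p.Coprime (Nat.card K) →
      (∏ t, Nat.card (fixIn K {φ t})) ^ p ≤
        Nat.card K ^ Fintype.card T * Nat.card (fixIn K (φ.range : Set G)) ^ ((p - 1) * Fintype.card T) := by
  intro K
  induction hk : Nat.card K using Nat.strong_induction_on generalizing K with
  | _ m ih =>
  subst hk
  intro hPK hcop
  have hp := (Fact.out : p.Prime)
  set P := φ.range with hPdef
  by_cases hcent : P ≤ Subgroup.centralizer (K : Set G)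
  · have hfull : ∀ S : Set G, S ⊆ P → fixIn K S = K := fun S hS =>
      inf_eq_left.2 fun v hv e he => (hcent (hS he) v hv).symm
    have h1 : ∀ t, fixIn K {φ t} = K := fun t =>
      hfull _ (Set.singleton_subset_iff.2 (show φ t ∈ P from ⟨t, rfl⟩))
    simp only [h1, hfull _ subset_rfl, Finset.prod_const, Finset.card_univ, ← pow_mul, ← pow_add]
    refine le_of_eq (congrArg _ ?_)
    obtain ⟨q, rfl⟩ : ∃ q, p = q + 1 := ⟨p - 1, by have := hp.pos; omega⟩
    rw [Nat.add_sub_cancel]
    ring
  -- an element of the group, central of order `p` modulo the centralizer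
  set C₀ := (Subgroup.centralizer (K : Set G)).subgroupOf P with hC₀
  haveI : C₀.Normal := Subgroup.normal_subgroupOf_of_le_normalizer
    (fun a ha => CfsgLib.Coprime.le_normalizer_centralizer hPK ha)
  haveI : Nontrivial (P ⧸ C₀) := QuotientGroup.nontrivial_iff.2 fun e => hcent (Subgroup.subgroupOf_eq_top.1 e)
  haveI := (hT.to_quotient C₀).center_nontrivial
  obtain ⟨n, hn⟩ := IsPGroup.iff_card.1 ((hT.to_quotient C₀).to_subgroup (Subgroup.center (P ⧸ C₀)))
  have hdvd : p ∣ Nat.card (Subgroup.center (P ⧸ C₀)) := by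
    have h1 := Finite.one_lt_card (α := Subgroup.center (P ⧸ C₀))
    rw [hn] at h1 ⊢
    exact dvd_pow_self p fun e => by rw [e, pow_zero] at h1; exact lt_irrefl _ h1
  obtain ⟨zb, hzb⟩ := exists_prime_orderOf_dvd_card' p hdvd
  obtain ⟨zP, hzP⟩ := QuotientGroup.mk'_surjective C₀ zb.1
  obtain ⟨tz, htz⟩ := zP.2
  set z := (zP : G) with hzdef
  have hC0iff : ∀ g : P, g ∈ C₀ ↔ ∀ v ∈ K, (g : G) * v = v * g := fun g =>
    ⟨fun h v hv => (h v hv).symm, fun h v hv => (h v hv).symm⟩
  have hzp : ∀ v ∈ K, z ^ p * v = v * z ^ p := by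
    have h1 : (zP ^ p : P) ∈ C₀ := by
      rw [← QuotientGroup.eq_one_iff, ← QuotientGroup.mk'_apply, map_pow, hzP, ← Subgroup.coe_pow,
        ← hzb, pow_orderOf_eq_one, Subgroup.coe_one]
    exact fun v hv => (hC0iff _).1 h1 v hv
  have hxz : ∀ g : P, ∀ v ∈ K, (g : G) * z * v * ((g : G) * z)⁻¹ = z * g * v * (z * g)⁻¹ := by
    intro g v hv
    have h1 : (g * zP)⁻¹ * (zP * g) ∈ C₀ := by
      rw [← QuotientGroup.eq_one_iff, ← QuotientGroup.mk'_apply, map_mul, map_inv, map_mul, map_mul, hzP,
        (Subgroup.mem_center_iff.1 zb.2 (QuotientGroup.mk' C₀ g)), inv_mul_cancel]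
    have h2 := (hC0iff _).1 h1 v hv
    simp only [Subgroup.coe_mul, Subgroup.coe_inv] at h2
    calc (g : G) * z * v * ((g : G) * z)⁻¹
        = (g : G) * z * (v * (((g : G) * z)⁻¹ * (z * g))) * (z * g)⁻¹ := by group
      _ = (g : G) * z * ((((g : G) * z)⁻¹ * (z * g)) * v) * (z * g)⁻¹ := by rw [h2]
      _ = _ := by group
  set K₁ := fixIn K {z} with hK₁
  have hlt : Nat.card K₁ < Nat.card K := by
    refine lt_of_le_of_ne (Subgroup.card_le_of_le inf_le_left) fun e => ?_
    have e1 : K₁ = K := Subgroup.eq_of_le_of_card_ge inf_le_left e.ge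
    have h1 : zP ∈ C₀ := (hC0iff _).2 fun v hv => (e1.ge hv).2 z rfl
    have h2 : zb = 1 := Subtype.ext (by
      rw [← hzP, QuotientGroup.mk'_apply, (QuotientGroup.eq_one_iff zP).2 h1]; rfl)
    rw [h2, orderOf_one] at hzb
    exact hp.one_lt.ne hzb
  have hPK₁ : P ≤ Subgroup.normalizer (K₁ : Set G) := by
    have h := le_normalizer_fixIn (K := K) (T := (P : Set G)) hPK (S := {z}) fun a ha e he v hv => by
      rw [Set.mem_singleton_iff] at he
      rw [he]
      exact (hxz ⟨a, ha⟩ v hv).symm
    rwa [Subgroup.closure_eq] at h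
  have IH := ih _ hlt K₁ rfl hPK₁ (hcop.coprime_dvd_right (Subgroup.card_dvd_of_le inf_le_left))
  have hfixP : fixIn K₁ (P : Set G) = fixIn K (P : Set G) :=
    le_antisymm (inf_le_inf_right _ inf_le_left) fun v hv =>
      ⟨⟨hv.1, fun e he => by rw [Set.mem_singleton_iff] at he; subst he; exact hv.2 z zP.2⟩, hv.2⟩
  have hfix2 : ∀ t, fixIn K {φ t, z} = fixIn K₁ {φ t} := fun t => by
    refine le_antisymm (fun v hv => ⟨⟨hv.1, fun e he => hv.2 e (Set.mem_insert_of_mem _ he)⟩,
      fun e he => hv.2 e (by rw [Set.mem_singleton_iff] at he; exact he ▸ Set.mem_insert _ _)⟩) fun v hv =>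
      ⟨hv.1.1, ?_⟩
    rintro e (rfl | rfl)
    · exact hv.2 _ rfl
    · exact hv.1.2 z rfl
  have hcoset : ∀ t, (∏ i ∈ Finset.range p, Nat.card (fixIn K {φ (t * tz ^ i)})) * Nat.card K₁ ≤
      Nat.card K * Nat.card (fixIn K₁ {φ t}) ^ p := fun t => by
    refine Nat.le_of_dvd (Nat.mul_pos Nat.card_pos (Nat.pow_pos Nat.card_pos)) ?_
    simp only [map_mul, map_pow, htz, ← hfix2]
    exact prod_fixIn_dvd hPK hT hcop (show φ t ∈ P from ⟨t, rfl⟩) zP.2 (hxz ⟨φ t, ⟨t, rfl⟩⟩) hzp
  have hall := Finset.prod_le_prod' (s := (Finset.univ : Finset T)) fun t _ => hcoset t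
  rw [Finset.prod_mul_distrib, Finset.prod_mul_distrib, Finset.prod_comm,
    Finset.prod_const, Finset.prod_const, Finset.card_univ, Finset.prod_pow] at hall
  have hsh : ∀ i : ℕ, (∏ t, Nat.card (fixIn K {φ (t * tz ^ i)})) = ∏ t, Nat.card (fixIn K {φ t}) :=
    fun i => Equiv.prod_comp (Equiv.mulRight (tz ^ i)) (fun t => Nat.card (fixIn K {φ t}))
  rw [Finset.prod_congr rfl fun i _ => hsh i, Finset.prod_const, Finset.card_range] at hall
  rw [hfixP] at IH
  have h3 := hall.trans (Nat.mul_le_mul_left _ IH)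
  rw [mul_left_comm (Nat.card K ^ Fintype.card T), mul_comm _ (Nat.card K₁ ^ Fintype.card T)] at h3
  exact Nat.le_of_mul_le_mul_left h3 (Nat.pow_pos Nat.card_pos)

end group

end CfsgLib.Subnormalizer
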