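import Mathlib
import Cfsg.Agent.Lib.Coprime.Action

/-!
Sylow subgroups above a given `p`-subgroup, counted along a series with `p` and `p'` factors.
-/

set_option autoImplicit false
set_option linter.style.haveILetI false
set_option linter.unusedSectionVars false

open Pointwise

namespace CfsgLib.Subnormalizer

universe u

variable {G : Type u} [Group G] [Finite G] {p : ℕ} [hp : Fact p.Prime]

/-- The number of Sylow `p`-subgroups containing `H`. -/
noncomputable def numAbove (p : ℕ) (H : Subgroup G) : ℕ := Nat.card {Q : Sylow p G // H ≤ (Q : Subgroup G)}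

theorem numAbove_pos {H : Subgroup G} (hH : IsPGroup p H) : 0 < numAbove p H := by
  haveI : Nonempty {Q : Sylow p G // H ≤ (Q : Subgroup G)} :=
    let ⟨Q, hQ⟩ := hH.exists_le_sylow; ⟨⟨Q, hQ⟩⟩
  exact Nat.card_pos

theorem numAbove_bot : numAbove p (⊥ : Subgroup G) = Nat.card (Sylow p G) :=
  Nat.card_congr (Equiv.subtypeUnivEquiv fun _ => bot_le)

theorem card_inf_centralizer_smul {N : Subgroup G} [N.Normal] (g : G) (X : Subgroup G) :
    Nat.card ↥(N ⊓ Subgroup.centralizer ((MulAut.conj g • X : Subgroup G) : Set G)) =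
      Nat.card ↥(N ⊓ Subgroup.centralizer (X : Set G)) := by
  have e : (N ⊓ Subgroup.centralizer (X : Set G)).map (MulAut.conj g).toMonoidHom =
      N ⊓ Subgroup.centralizer ((MulAut.conj g • X : Subgroup G) : Set G) := by
    ext y
    rw [Subgroup.mem_map_equiv, Subgroup.mem_inf, Subgroup.mem_inf, MulAut.conj_symm_apply]
    refine and_congr ?_ ?_
    · exact ⟨fun h => by simpa [mul_assoc] using Subgroup.Normal.conj_mem (inferInstance : N.Normal) _ h g,
        fun h => by simpa using Subgroup.Normal.conj_mem (inferInstance : N.Normal) _ h g⁻¹⟩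
    · refine ⟨fun h z hz => ?_, fun h x hx => ?_⟩
      · rw [SetLike.mem_coe, Subgroup.mem_pointwise_smul_iff_inv_smul_mem] at hz
        have h' := h _ hz
        rw [MulAut.smul_def, MulAut.conj_inv_apply] at h'
        calc z * y = g * ((g⁻¹ * z * g) * (g⁻¹ * y * g)) * g⁻¹ := by group
          _ = g * ((g⁻¹ * y * g) * (g⁻¹ * z * g)) * g⁻¹ := by rw [h']
          _ = y * z := by group
      · have h' := h (g * x * g⁻¹) (Subgroup.smul_mem_pointwise_smul x (MulAut.conj g) X hx)
        calc x * (g⁻¹ * y * g) = g⁻¹ * ((g * x * g⁻¹) * y) * g := by group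
          _ = g⁻¹ * (y * (g * x * g⁻¹)) * g := by rw [h']
          _ = g⁻¹ * y * g * x := by group
  rw [← e, Subgroup.card_map_of_injective (MulAut.conj g).injective]

variable {G' : Type u} [Group G'] [Finite G']

/-- A `p`-group kernel does not change the count. -/
theorem numAbove_map_of_isPGroup_ker (f : G →* G') (hf : Function.Surjective f) (hk : IsPGroup p f.ker)
    (H : Subgroup G) : numAbove p H = numAbove p (H.map f) := by
  have hle : ∀ Q : Sylow p G, f.ker ≤ (Q : Subgroup G) := fun Q => IsPGroup.le_sylow_of_normal hk Q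
  refine Nat.card_eq_of_bijective
    (fun Q => ⟨Sylow.mapSurjective hf Q.1, by
      rw [Sylow.coe_mapSurjective]; exact Subgroup.map_mono Q.2⟩) ⟨?_, ?_⟩
  · intro Q₁ Q₂ e
    have e' : (Q₁.1 : Subgroup G).map f = (Q₂.1 : Subgroup G).map f := by
      simpa using congrArg (fun Q => ((Q.1 : Sylow p G') : Subgroup G')) e
    refine Subtype.ext (Sylow.ext ?_)
    rw [← Subgroup.comap_map_eq_self (hle Q₁.1), e', Subgroup.comap_map_eq_self (hle Q₂.1)]
  · intro Q'
    obtain ⟨Q, hQ⟩ := Sylow.mapSurjective_surjective hf p Q'.1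
    refine ⟨⟨Q, ?_⟩, Subtype.ext hQ⟩
    have h := Q'.2
    rw [← hQ, Sylow.coe_mapSurjective, Subgroup.map_le_iff_le_comap, Subgroup.comap_map_eq_self (hle Q)] at h
    exact h

/-- A `p'`-kernel multiplies the count by the index of the fixed points of a Sylow subgroup in those
of the subgroup. -/
theorem numAbove_map_of_coprime_ker (f : G →* G') (hf : Function.Surjective f)
    (hk : (Nat.card f.ker).Coprime p) {H : Subgroup G} (hH : IsPGroup p H) (P : Sylow p G) :
    numAbove p H * Nat.card ↥(f.ker ⊓ Subgroup.centralizer ((P : Subgroup G) : Set G)) =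
      numAbove p (H.map f) * Nat.card ↥(f.ker ⊓ Subgroup.centralizer (H : Set G)) := by
  classical
  set N := f.ker with hN
  set C := N ⊓ Subgroup.centralizer (H : Set G) with hC
  let φ : {Q : Sylow p G // H ≤ (Q : Subgroup G)} → {Q' : Sylow p G' // H.map f ≤ (Q' : Subgroup G')} :=
    fun Q => ⟨Sylow.mapSurjective hf Q.1, by rw [Sylow.coe_mapSurjective]; exact Subgroup.map_mono Q.2⟩
  have hdisj : ∀ (Q : Subgroup G), IsPGroup p Q → ∀ y ∈ Q, y ∈ N → y = 1 := by
    intro Q hQ y hy hyN
    obtain ⟨j, hj⟩ := hQ ⟨y, hy⟩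
    have h1 : orderOf y ∣ p ^ j := orderOf_dvd_of_pow_eq_one (congrArg Subtype.val hj)
    have h2 : orderOf y ∣ Nat.card N := (Subgroup.orderOf_mk y hyN) ▸ orderOf_dvd_natCard _
    exact orderOf_eq_one_iff.1 (Nat.eq_one_of_dvd_coprimes ((hk.symm).pow_left j) h1 h2)
  -- a Sylow subgroup above `H` over each one above its image
  have hsurj : Function.Surjective φ := by
    intro Q'
    set L := (Q'.1 : Subgroup G').comap f with hL
    have hHL : H ≤ L := Subgroup.map_le_iff_le_comap.1 Q'.2
    obtain ⟨S, hS⟩ := (hH.comap_of_injective L.subtype L.subtype_injective).exists_le_sylow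
    have hidx : ¬ p ∣ ((S : Subgroup L).map L.subtype).index := by
      rw [Subgroup.index_map_subtype, Nat.Prime.dvd_mul hp.out, not_or]
      refine ⟨S.not_dvd_index, ?_⟩
      rw [hL, Subgroup.index_comap_of_surjective _ hf]
      exact Q'.1.not_dvd_index
    let Q := (S.2.map L.subtype).toSylow hidx
    have hQH : H ≤ (Q : Subgroup G) := fun h hh => ⟨⟨h, hHL hh⟩, hS hh, rfl⟩
    refine ⟨⟨Q, hQH⟩, Subtype.ext (Sylow.ext ((Sylow.mapSurjective hf Q).3 Q'.1.2 ?_).symm)⟩
    rintro - ⟨y, ⟨l, -, rfl⟩, rfl⟩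
    exact l.2
  -- each fibre is an orbit of `C`
  have hfib : ∀ Q' (Q : {Q : Sylow p G // H ≤ (Q : Subgroup G)}), φ Q = Q' →
      Nat.card {R // φ R = Q'} * Nat.card ↥(N ⊓ Subgroup.centralizer ((P : Subgroup G) : Set G)) =
        Nat.card C := by
    intro Q' Q hQ
    have hPQ : Nat.card ↥(N ⊓ Subgroup.centralizer ((Q.1 : Subgroup G) : Set G)) =
        Nat.card ↥(N ⊓ Subgroup.centralizer ((P : Subgroup G) : Set G)) := by
      obtain ⟨g, hg⟩ := MulAction.exists_smul_eq G P Q.1
      rw [← hg, Sylow.coe_subgroup_smul]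
      exact card_inf_centralizer_smul g _
    have hstab : Nat.card (MulAction.stabilizer C Q.1) =
        Nat.card ↥(N ⊓ Subgroup.centralizer ((Q.1 : Subgroup G) : Set G)) := by
      refine Nat.card_congr
        { toFun := fun c => ⟨(c.1 : G), ?_⟩
          invFun := fun c => ⟨⟨c.1, c.2.1, fun h hh => c.2.2 h (Q.2 hh)⟩, ?_⟩
          left_inv := fun c => rfl
          right_inv := fun c => rfl }
      · have hn : (c.1 : G) ∈ Subgroup.normalizer ((Q.1 : Subgroup G) : Set G) :=
          Sylow.smul_eq_iff_mem_normalizer.1 c.2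
        refine ⟨c.1.2.1, fun q hq => ?_⟩
        have h1 : (c.1 : G) * q * (c.1 : G)⁻¹ * q⁻¹ ∈ (Q.1 : Subgroup G) :=
          mul_mem ((Subgroup.mem_normalizer_iff.1 hn q).1 hq) (inv_mem hq)
        have h2 : (c.1 : G) * q * (c.1 : G)⁻¹ * q⁻¹ ∈ N := by
          rw [show (c.1 : G) * q * (c.1 : G)⁻¹ * q⁻¹ = (c.1 : G) * (q * (c.1 : G)⁻¹ * q⁻¹) by group]
          exact mul_mem c.1.2.1 (Subgroup.Normal.conj_mem inferInstance _ (inv_mem c.1.2.1) q)
        have h3 := hdisj _ Q.1.2 _ h1 h2
        rw [mul_inv_eq_one, mul_inv_eq_iff_eq_mul] at h3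
        exact h3.symm
      · refine Sylow.smul_eq_iff_mem_normalizer.2 ?_
        exact Subgroup.centralizer_le_normalizer _ c.2.2
    have horb : Nat.card (MulAction.orbit C Q.1) = Nat.card {R // φ R = Q'} := by
      refine Nat.card_congr
        { toFun := fun R => ⟨⟨R.1, ?_⟩, ?_⟩
          invFun := fun R => ⟨R.1.1, ?_⟩
          left_inv := fun R => rfl
          right_inv := fun R => rfl }
      · obtain ⟨c, hc⟩ := R.2
        rw [← hc]
        intro h hh
        show h ∈ (((c : G) • Q.1 : Sylow p G) : Subgroup G)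
        rw [Sylow.coe_subgroup_smul, Subgroup.mem_pointwise_smul_iff_inv_smul_mem, MulAut.smul_def,
          MulAut.conj_inv_apply, mul_assoc, c.2.2 h hh, inv_mul_cancel_left]
        exact Q.2 hh
      · obtain ⟨c, hc⟩ := R.2
        rw [← hQ]
        refine Subtype.ext (Sylow.ext ?_)
        simp only [φ, Sylow.coe_mapSurjective, ← hc]
        show (((c : G) • Q.1 : Sylow p G) : Subgroup G).map f = _
        rw [Sylow.coe_subgroup_smul]
        ext y
        have hfc : f (c : G) = 1 := c.2.1
        constructor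
        · rintro ⟨z, hz, rfl⟩
          rw [SetLike.mem_coe, Subgroup.mem_pointwise_smul_iff_inv_smul_mem, MulAut.smul_def,
            MulAut.conj_inv_apply] at hz
          exact ⟨_, hz, by simp [hfc]⟩
        · rintro ⟨z, hz, rfl⟩
          exact ⟨_, Subgroup.smul_mem_pointwise_smul z (MulAut.conj (c : G)) _ hz, by simp [hfc]⟩
      · have e : (R.1.1 : Subgroup G).map f = (Q.1 : Subgroup G).map f := by
          simpa [φ] using congrArg (fun S => ((S.1 : Sylow p G') : Subgroup G')) (R.2.trans hQ.symm)
        set L := ((Q.1 : Subgroup G).map f).comap f with hL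
        have hQL : (Q.1 : Subgroup G) ≤ L := Subgroup.le_comap_map _ _
        have hRL : (R.1.1 : Subgroup G) ≤ L := Subgroup.map_le_iff_le_comap.1 e.le
        obtain ⟨l, hl⟩ := MulAction.exists_smul_eq L (Q.1.subtype hQL) (R.1.1.subtype hRL)
        obtain ⟨q, hq, hfq⟩ : ∃ q ∈ (Q.1 : Subgroup G), f q = f (l : G) := l.2
        set c := (l : G) * q⁻¹ with hc
        have hcQ : MulAut.conj c • (Q.1 : Subgroup G) = R.1.1 := by
          have h1 := congrArg (fun S : Sylow p L => (S : Subgroup L).map L.subtype) hl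
          simp only [CfsgLib.Coprime.map_subtype_conj_smul_sylow, Sylow.coe_subtype,
            Subgroup.map_subgroupOf_eq_of_le hQL, Subgroup.map_subgroupOf_eq_of_le hRL] at h1
          rw [hc, map_mul, mul_smul, CfsgLib.Coprime.conj_smul_eq_of_mem (inv_mem hq), h1]
        refine ⟨⟨c, ?_, fun h hh => ?_⟩, Sylow.ext ?_⟩
        · show f c = 1
          rw [hc, map_mul, map_inv, hfq, mul_inv_cancel]
        · have hcN : c ∈ N := by
            show f c = 1
            rw [hc, map_mul, map_inv, hfq, mul_inv_cancel]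
          have h1 : c * h * c⁻¹ ∈ (R.1.1 : Subgroup G) := by
            rw [← hcQ]
            exact Subgroup.smul_mem_pointwise_smul h (MulAut.conj c) _ (Q.2 hh)
          have h2 : c * h * c⁻¹ * h⁻¹ ∈ (R.1.1 : Subgroup G) := mul_mem h1 (inv_mem (R.1.2 hh))
          have h3 : c * h * c⁻¹ * h⁻¹ ∈ N := by
            rw [show c * h * c⁻¹ * h⁻¹ = c * (h * c⁻¹ * h⁻¹) by group]
            exact mul_mem hcN (Subgroup.Normal.conj_mem inferInstance _ (inv_mem hcN) h)
          have h4 := hdisj _ R.1.1.2 _ h2 h3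
          rw [mul_inv_eq_one, mul_inv_eq_iff_eq_mul] at h4
          exact h4.symm
        · show ((c • Q.1 : Sylow p G) : Subgroup G) = _
          rw [Sylow.coe_subgroup_smul, hcQ]
    rw [← hPQ, ← hstab, ← horb, Nat.card_coe_set_eq, ← MulAction.index_stabilizer, Subgroup.index_mul_card]
  haveI := Fintype.ofFinite {Q' : Sylow p G' // H.map f ≤ (Q' : Subgroup G')}
  rw [numAbove, numAbove, ← Nat.card_congr (Equiv.sigmaFiberEquiv φ), Nat.card_sigma, Finset.sum_mul,
    Finset.sum_congr rfl fun Q' _ => (let ⟨Q, hQ⟩ := hsurj Q'; hfib Q' Q hQ), Finset.sum_const,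
    Finset.card_univ, smul_eq_mul, Nat.card_eq_fintype_card (α := {Q' : Sylow p G' // _})]

/-! ### A series with `p` and `p'` factors -/

section chain

variable {n : ℕ} {M : Fin (n + 1) → Subgroup G}

/-- The elements of `B` that `H` centralizes modulo `A`, counted modulo `A`. -/
noncomputable def fixQuot (H A B : Subgroup G) : ℕ :=
  Nat.card {u : G // u ∈ B ∧ ∀ h ∈ H, h * u * h⁻¹ * u⁻¹ ∈ A} / Nat.card A

theorem fixQuot_eq {A B : Subgroup G} [A.Normal] (hAB : A ≤ B) (H : Subgroup G) :
    fixQuot H A B = Nat.card ↥(B.map (QuotientGroup.mk' A) ⊓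
      Subgroup.centralizer ((H.map (QuotientGroup.mk' A) : Subgroup (G ⧸ A)) : Set (G ⧸ A))) := by
  set π := QuotientGroup.mk' A with hπ
  set X := B.map π ⊓ Subgroup.centralizer ((H.map π : Subgroup (G ⧸ A)) : Set (G ⧸ A)) with hX
  have hmem : ∀ u : G, u ∈ X.comap π ↔ (u ∈ B ∧ ∀ h ∈ H, h * u * h⁻¹ * u⁻¹ ∈ A) := by
    intro u
    rw [Subgroup.mem_comap, hX, Subgroup.mem_inf]
    refine and_congr ?_ ⟨fun h x hx => ?_, fun h => ?_⟩
    · rw [← Subgroup.mem_comap, Subgroup.comap_map_eq, hπ, QuotientGroup.ker_mk', sup_eq_left.2 hAB]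
    · rw [← QuotientGroup.eq_one_iff, ← QuotientGroup.mk'_apply, ← hπ]
      simp [h (π x) (Subgroup.mem_map_of_mem π hx)]
    · rintro - ⟨x, hx, rfl⟩
      have h1 := (QuotientGroup.eq_one_iff _).2 (h x hx)
      rw [← QuotientGroup.mk'_apply, ← hπ, map_mul, map_mul, map_mul, map_inv, map_inv, mul_inv_eq_one,
        mul_inv_eq_iff_eq_mul] at h1
      exact h1
  have hAX : A ≤ X.comap π := fun a ha => by
    rw [Subgroup.mem_comap, hπ, QuotientGroup.mk'_apply, (QuotientGroup.eq_one_iff a).2 ha]
    exact one_mem X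
  have e : A.relIndex (X.comap π) = Nat.card X := by
    refine (congrArg (fun S : Subgroup G => S.relIndex (X.comap π))
      (show A = (⊥ : Subgroup (G ⧸ A)).comap π by
        rw [MonoidHom.comap_bot, hπ, QuotientGroup.ker_mk'])).trans ?_
    rw [Subgroup.relIndex_comap,
      Subgroup.map_comap_eq_self_of_surjective (QuotientGroup.mk'_surjective A), Subgroup.relIndex_bot_left]
  rw [fixQuot, ← Nat.card_congr (Equiv.subtypeEquivRight hmem)]
  have h2 := Subgroup.relIndex_mul_relIndex ⊥ A (X.comap π) bot_le hAX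
  rw [Subgroup.relIndex_bot_left, Subgroup.relIndex_bot_left, e] at h2
  exact Nat.div_eq_of_eq_mul_right Nat.card_pos h2.symm

theorem fixQuot_bot {A B : Subgroup G} [A.Normal] (hAB : A ≤ B) : fixQuot ⊥ A B = A.relIndex B := by
  rw [fixQuot_eq hAB, Subgroup.map_bot,
    inf_eq_left.2 (fun x _ h hh => by rw [SetLike.mem_coe, Subgroup.mem_bot] at hh; rw [hh, one_mul, mul_one]),
    ← Subgroup.relIndex_bot_left, ← Subgroup.relIndex_comap, MonoidHom.comap_bot, QuotientGroup.ker_mk']

/-- The contribution of a factor. -/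
noncomputable def weight (p : ℕ) (M : Fin (n + 1) → Subgroup G) (H : Subgroup G) (i : Fin n) : ℕ :=
  if ((M i.castSucc).relIndex (M i.succ)).Coprime p then fixQuot H (M i.castSucc) (M i.succ) else 1

variable (hmono : Monotone M) (hnormal : ∀ i, (M i).Normal)

include hmono hnormal

theorem weight_pos (H : Subgroup G) (i : Fin n) : 0 < weight p M H i := by
  haveI := hnormal i.castSucc
  rw [weight]
  split_ifs
  · rw [fixQuot_eq (hmono (le_of_lt Fin.castSucc_lt_succ))]
    exact Nat.card_pos
  · exact one_pos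

variable (h0 : M 0 = ⊥) (hn : M (Fin.last n) = ⊤)
  (hfac : ∀ i : Fin n, (∃ m : ℕ, (M i.castSucc).relIndex (M i.succ) = p ^ m) ∨
    ((M i.castSucc).relIndex (M i.succ)).Coprime p)

include h0 hn hfac

/-- The count along the series. -/
theorem numAbove_mul_prod {H : Subgroup G} (hH : IsPGroup p H) (P : Sylow p G) :
    numAbove p H * ∏ i, weight p M (P : Subgroup G) i = ∏ i, weight p M H i := by
  let T : Fin (n + 1) → ℕ := fun i =>
    haveI := hnormal i
    numAbove p (H.map (QuotientGroup.mk' (M i)))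
  have hT : ∀ i, 0 < T i := fun i => by
    haveI := hnormal i
    exact numAbove_pos (hH.map _)
  have hstep : ∀ i : Fin n, T i.castSucc * weight p M (P : Subgroup G) i = T i.succ * weight p M H i := by
    intro i
    haveI := hnormal i.castSucc
    haveI := hnormal i.succ
    have hle : M i.castSucc ≤ M i.succ := hmono (le_of_lt Fin.castSucc_lt_succ)
    let f : G ⧸ M i.castSucc →* G ⧸ M i.succ :=
      QuotientGroup.map _ _ (MonoidHom.id G) (hle.trans (Subgroup.comap_id _).ge)
    have hf : Function.Surjective f := fun y => by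
      obtain ⟨g, rfl⟩ := QuotientGroup.mk'_surjective _ y
      exact ⟨QuotientGroup.mk' _ g, rfl⟩
    have hker : f.ker = (M i.succ).map (QuotientGroup.mk' (M i.castSucc)) := by
      show (QuotientGroup.map _ _ (MonoidHom.id G) (hle.trans (Subgroup.comap_id _).ge)).ker = _
      rw [QuotientGroup.ker_map]
      rfl
    have hmap : (H.map (QuotientGroup.mk' (M i.castSucc))).map f = H.map (QuotientGroup.mk' (M i.succ)) := by
      rw [Subgroup.map_map]
      rfl
    have hcard : Nat.card f.ker = (M i.castSucc).relIndex (M i.succ) := by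
      rw [hker, ← Subgroup.relIndex_bot_left, ← Subgroup.relIndex_comap, MonoidHom.comap_bot,
        QuotientGroup.ker_mk']
    show numAbove p _ * _ = numAbove p _ * _
    by_cases hco : ((M i.castSucc).relIndex (M i.succ)).Coprime p
    · rw [weight, weight, if_pos hco, if_pos hco, fixQuot_eq hle, fixQuot_eq hle, ← hker, ← hmap]
      exact numAbove_map_of_coprime_ker f hf (hcard.symm ▸ hco) (hH.map _)
        (Sylow.mapSurjective (QuotientGroup.mk'_surjective _) P)
    · obtain ⟨m, hm⟩ := (hfac i).resolve_right hco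
      rw [weight, weight, if_neg hco, if_neg hco, mul_one, mul_one, ← hmap]
      exact numAbove_map_of_isPGroup_ker f hf (IsPGroup.of_card (hcard.trans hm)) _
  have h1 : T 0 = numAbove p H := by
    haveI := hnormal 0
    refine (numAbove_map_of_isPGroup_ker _ (QuotientGroup.mk'_surjective _) ?_ H).symm
    rw [QuotientGroup.ker_mk', h0]
    exact IsPGroup.of_bot
  have h2 : T (Fin.last n) = 1 := by
    haveI := hnormal (Fin.last n)
    haveI : Subsingleton (G ⧸ M (Fin.last n)) := by
      rw [hn]; exact QuotientGroup.subsingleton_quotient_top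
    show numAbove p _ = 1
    refine le_antisymm ?_ (numAbove_pos (hH.map _))
    haveI : Subsingleton (Sylow p (G ⧸ M (Fin.last n))) :=
      ⟨fun a b => Sylow.ext (Subsingleton.elim _ _)⟩
    exact Finite.card_le_one_iff_subsingleton.2 inferInstance
  have hprod := Finset.prod_congr rfl fun i (_ : i ∈ (Finset.univ : Finset (Fin n))) => hstep i
  rw [Finset.prod_mul_distrib, Finset.prod_mul_distrib] at hprod
  have e : ∏ i : Fin n, T i.castSucc = numAbove p H * ∏ i : Fin n, T i.succ := by
    rw [← h1, ← Fin.prod_univ_succ, Fin.prod_univ_castSucc, h2, mul_one]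
  rw [e, mul_right_comm, mul_comm (∏ i : Fin n, T i.succ) (∏ i, weight p M H i)] at hprod
  exact Nat.eq_of_mul_eq_mul_right (Finset.prod_pos fun i _ => hT _) hprod

theorem prod_weight_bot (P : Sylow p G) :
    Nat.card G = Nat.card (P : Subgroup G) * ∏ i, weight p M (⊥ : Subgroup G) i := by
  classical
  have hidx : Nat.card G = ∏ i : Fin n, (M i.castSucc).relIndex (M i.succ) := by
    have key : ∀ i : Fin (n + 1), Nat.card (M i) =
        ∏ j ∈ Finset.univ.filter (fun j : Fin n => j.castSucc < i), (M j.castSucc).relIndex (M j.succ) := by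
      intro i
      induction i using Fin.induction with
      | zero => simp [h0]
      | succ i ih =>
        have e : Finset.univ.filter (fun j : Fin n => j.castSucc < i.succ) =
            insert i (Finset.univ.filter (fun j : Fin n => j.castSucc < i.castSucc)) := by
          ext j
          simp only [Finset.mem_filter, Finset.mem_univ, true_and, Finset.mem_insert, Fin.lt_def,
            Fin.val_succ, Fin.val_castSucc, Fin.ext_iff]
          omega
        rw [e, Finset.prod_insert (by simp), ← ih]
        have h := Subgroup.relIndex_mul_relIndex ⊥ (M i.castSucc) (M i.succ) bot_le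
          (hmono (le_of_lt Fin.castSucc_lt_succ))
        rw [Subgroup.relIndex_bot_left, Subgroup.relIndex_bot_left] at h
        rw [← h, mul_comm]
    have h := key (Fin.last n)
    rw [hn, Subgroup.card_top, Finset.filter_true_of_mem fun j _ => Fin.castSucc_lt_last j] at h
    exact h
  have hsplit : ∀ i : Fin n, ∃ k : ℕ, (M i.castSucc).relIndex (M i.succ) = p ^ k * weight p M ⊥ i ∧
      (weight p M (⊥ : Subgroup G) i).Coprime p := by
    intro i
    haveI := hnormal i.castSucc
    rw [weight]
    split_ifs with hco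
    · refine ⟨0, ?_, ?_⟩ <;> rw [fixQuot_bot (hmono (le_of_lt Fin.castSucc_lt_succ))]
      · rw [pow_zero, one_mul]
      · exact hco
    · obtain ⟨m, hm⟩ := (hfac i).resolve_right hco
      exact ⟨m, by rw [hm, mul_one], Nat.coprime_one_left p⟩
  choose k hk hk' using hsplit
  rw [Finset.prod_congr rfl fun i _ => hk i, Finset.prod_mul_distrib, Finset.prod_pow_eq_pow_sum] at hidx
  set W := ∏ i, weight p M (⊥ : Subgroup G) i with hW
  have hWp : ¬ p ∣ W := hp.out.coprime_iff_not_dvd.1 (Nat.Coprime.prod_left fun i _ => hk' i).symm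
  have hW0 : W ≠ 0 := (Finset.prod_pos fun i _ => weight_pos hmono hnormal _ i).ne'
  rw [P.card_eq_multiplicity]
  conv_rhs => rw [hidx, Nat.factorization_mul (pow_ne_zero _ hp.out.ne_zero) hW0]
  simp [Nat.factorization_eq_zero_of_not_dvd hWp, hp.out.factorization_pow, hidx]

/-- The normalizer of a Sylow subgroup. -/
theorem card_normalizer_sylow (P : Sylow p G) :
    Nat.card (Subgroup.normalizer ((P : Subgroup G) : Set G)) =
      Nat.card (P : Subgroup G) * ∏ i, weight p M (P : Subgroup G) i := by
  have h1 := prod_weight_bot hmono hnormal h0 hn hfac P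
  rw [← numAbove_mul_prod hmono hnormal h0 hn hfac IsPGroup.of_bot P, numAbove_bot] at h1
  have h2 := Subgroup.index_mul_card (Subgroup.normalizer ((P : Subgroup G) : Set G))
  rw [show (Subgroup.normalizer ((P : Subgroup G) : Set G)).index = Nat.card (Sylow p G) from
    P.card_eq_index_normalizer.symm, h1, mul_left_comm] at h2
  exact Nat.eq_of_mul_eq_mul_left Nat.card_pos h2

end chain

end CfsgLib.Subnormalizer
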